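import Cfsg.Agent.Lib.Schur.TailsMod

/-!
A Sylow 3-subgroup of the triple cover of J₃: pc generators, their conjugates under further elements,
and the certificate that the tails of a central extension can be removed.
-/

set_option autoImplicit false
set_option maxRecDepth 20000

namespace Cfsg.Agent.J3

open Cfsg.Agent.Schur.TailsMod

/-- The matrices: the generators, then the further elements. -/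
def tlThreeMat : List ℕ :=
  [0x1d8400f5beedb2657af5aa9bfaba04e9bffc8d5,
   0xfc9cbc3264214d451b3c12e8a6b1e666ba275c,
   0x78e7bd4b785e183344e708984a4fd0e078fd3aa,
   0x576d553c47112bedfb2cf3ac671558d3e21f937d,
   0x54e2a774a9cb0d511fd7be579db5be8c9324cd17,
   0x20080200802008020080200000000000000000000,
   0x143f2ffcafa634086686833a9c8ffb174db18defe,
   0x18dc03903a2cbdd560068372a3f087ae643e04170]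

/-- Their coordinates. -/
def tlThreeCoord : List (ℕ × ℕ) := [(19830, 2615), (6414, 1535), (15931, 3648), (5163, 1630), (60, 5140), (0, 243), (5202, 2162), (20178, 4704)]

/-- The data. -/
def tlThreeData : PData where
  n := 6
  p := 3
  nmaps := 2
  pw k := ([[3, 5, 5], [4, 4, 5, 5], [], [], [], []] : List (List ℕ)).getD k []
  cj j k := (([[[], [1, 2, 3, 3, 4], [2, 4, 4], [3], [4, 5], [5]],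
    [[], [], [2, 3, 3, 5], [3, 5], [4], [5]],
    [[], [], [], [3], [4], [5]],
    [[], [], [], [], [4], [5]],
    [[], [], [], [], [], [5]],
    [[], [], [], [], [], []]] :
    List (List (List ℕ))).getD j []).getD k []
  img l k := (([[[1, 1, 2, 4, 4, 5], [0, 2, 3, 4, 4], [2, 3, 3, 5], [4, 5], [3, 3, 5], [5]],
    [[0, 2], [1, 2, 2, 3, 3, 4], [2, 3, 4], [3, 5, 5], [4, 5, 5], [5]]] :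
    List (List (List ℕ))).getD l []).getD k []
  adj k := ([[], [], [1, 2, 0, 0, 0, 0, 1, 2], [1, 2, 0, 0, 0, 0, 0, 1], [0, 0, 0, 0, 0, 0, 0, 2], [0, 2, 0, 0, 0, 0, 0, 1]] : List (List ℕ)).getD k []

/-- The rules in the order of their tails. -/
def tlThreeRules : List Rule := [.pw 0, .pw 1, .pw 2, .pw 3, .pw 4, .pw 5, .cj 0 1, .cj 0 2,
   .cj 1 2, .cj 0 3, .cj 1 3, .cj 2 3, .cj 0 4, .cj 1 4, .cj 2 4, .cj 3 4,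
   .cj 0 5, .cj 1 5, .cj 2 5, .cj 3 5, .cj 4 5]

/-- The equations used. -/
def tlThreeEqs : List Lab :=
  [.fus (.pw 0) 0, .fus (.pw 1) 0, .fus (.pw 2) 0, .fus (.pw 3) 0,
   .fus (.cj 0 2) 0, .fus (.cj 1 2) 0, .fus (.cj 0 3) 0, .fus (.cj 1 3) 0,
   .fus (.cj 2 3) 0, .fus (.cj 0 4) 0, .fus (.cj 1 4) 0, .fus (.cj 2 4) 0,
   .fus (.cj 3 4) 0, .fus (.cj 0 5) 0, .fus (.cj 1 5) 0, .fus (.cj 2 5) 0,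
   .fus (.pw 0) 1, .fus (.pw 1) 1, .fus (.pw 2) 1, .fus (.cj 0 2) 1,
   .fus (.cj 1 2) 1, .fus (.cj 1 3) 1, .fus (.cj 2 3) 1]

/-- The derivations. -/
def tlThreeSel : List (List (ℕ × ℕ)) :=
  [[], [],
   [(2, 1), (3, 2), (6, 1), (8, 1), (11, 1), (12, 2), (13, 1), (14, 1), (16, 1), (17, 2), (19, 1), (20, 1), (21, 2), (22, 1)], [(2, 2), (3, 1), (18, 2)],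
   [(2, 1), (3, 2)], [(2, 1), (3, 1), (18, 2)],
   [], [],
   [(0, 2), (1, 1), (2, 1), (3, 1), (4, 2), (5, 2), (6, 1), (9, 1), (10, 1), (11, 1), (13, 1), (14, 2), (16, 2), (17, 2), (18, 1), (19, 1), (20, 2), (21, 2), (22, 1)], [(7, 2), (9, 1), (10, 2), (13, 1), (15, 1), (16, 2), (17, 2), (19, 1), (20, 2), (21, 2), (22, 1)],
   [(0, 2), (1, 2), (3, 2), (4, 1), (5, 2), (6, 1), (7, 1), (8, 2), (9, 1), (10, 2), (13, 2), (14, 2), (17, 1), (18, 1), (19, 2), (21, 1), (22, 2)], [(8, 2), (11, 2), (22, 1)],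
   [(0, 2), (1, 2), (2, 2), (3, 1), (4, 1), (5, 2), (6, 2), (7, 2), (8, 2), (10, 1), (11, 2), (12, 2), (13, 1), (14, 1), (15, 2), (17, 1), (18, 2), (19, 2), (21, 1), (22, 2)], [(6, 2), (7, 1), (8, 1), (9, 2), (12, 2), (13, 2), (14, 1), (16, 1), (17, 1), (19, 2), (20, 1), (21, 1), (22, 2)],
   [(6, 1), (8, 1), (10, 2), (12, 1), (13, 2), (15, 2)], [(6, 2), (10, 1), (11, 2), (13, 1), (15, 1)],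
   [(13, 2), (14, 1), (15, 1)], [(6, 1), (10, 2), (11, 1), (12, 2), (13, 1), (14, 2), (15, 2), (22, 1)],
   [(6, 1), (10, 2), (11, 1), (12, 1), (13, 2), (15, 2), (22, 1)], [(15, 1)],
   [(12, 2), (15, 2)]]

/-- A word for each element of the subgroup, by increasing matrices. -/
def tlThreeWords : List (List ℕ) :=
  [[], [1], [0], [0, 1, 2, 2, 3, 3, 4], [0, 2, 3, 3, 5, 5], [1, 1, 2, 2, 3, 5, 5], [2], [0, 0, 3, 3, 4, 4, 5, 5],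
   [0, 0, 1, 2, 2, 3, 5], [0, 1, 1, 2, 5, 5], [1, 1, 3, 3, 4, 5, 5], [1, 1, 3, 4, 5], [0, 1, 1, 3, 3, 5, 5], [1, 1, 4, 4, 5], [1, 1, 2, 2, 3, 4, 5], [0, 0, 1, 1, 2, 2, 3],
   [0, 1, 1, 3, 5, 5], [2, 3, 4, 4, 5, 5], [0, 0, 1, 2, 2, 3, 4], [0, 0, 1, 2, 2, 4, 4], [1, 2, 4], [1, 1, 2, 3, 3, 4, 4, 5, 5], [0, 4, 4], [0, 0, 1, 1, 4, 4],
   [0, 2, 2, 3, 4, 5], [0, 1, 2, 2], [2, 2, 5, 5], [0, 0, 1, 2, 2, 5, 5], [0, 0, 1, 1, 2, 2], [0, 0, 2, 3, 3, 4, 4, 5], [0, 1, 2, 2, 3, 3, 5], [0, 1, 2, 2, 3, 4, 4, 5],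
   [2, 2, 3, 3, 4], [0, 0, 1, 2, 2, 3, 4, 4, 5], [1, 3, 3], [0, 0, 2, 2, 4, 4, 5], [2, 3, 3, 4, 4, 5, 5], [2, 2, 3, 4, 5], [0, 2, 2, 3, 4, 4], [0, 0, 1, 1, 2, 2, 4],
   [1, 2, 2, 3, 4, 4, 5], [1, 1, 3, 4, 4], [0, 1, 2, 3, 3, 5], [1, 1, 2, 3, 4, 4, 5], [0, 1, 1, 2, 3, 3, 4], [0, 1, 1, 3, 3], [2, 2, 4], [2, 2, 3, 4, 4, 5],
   [0, 1, 2, 2, 3, 3, 4, 5], [0, 1, 2, 3, 5], [0, 1, 1, 3, 3, 5], [0, 1, 2, 2, 3, 3, 4, 5, 5], [0, 1, 4, 4, 5, 5], [0, 1, 1, 2, 2, 3, 3, 4, 4, 5], [1, 2, 4, 4, 5], [1, 2, 2, 3, 5, 5],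
   [1, 2, 5], [2, 2, 3, 3], [1, 3, 4, 5, 5], [0, 2, 2, 4, 4, 5], [4], [0, 0, 1, 2, 2, 3, 4, 4, 5, 5], [3], [1, 1, 2, 3, 4, 5],
   [0, 1, 1, 5], [1, 1, 2, 3, 5], [0, 1, 1, 2, 2, 3, 4, 4, 5], [0, 0, 1, 2, 2, 3, 3, 4, 5, 5], [0, 1, 1, 4, 4, 5, 5], [0, 0, 1, 1, 2, 2, 3, 5, 5], [0, 1, 2, 2, 4, 5], [2, 4, 4],
   [0, 1, 1, 2, 3, 4], [0, 1, 3, 3, 4, 4, 5], [0, 1, 1, 2, 3, 3, 5], [0, 0, 1, 1, 2, 3, 4, 5], [3, 4, 4, 5], [1, 3, 3, 4, 5], [0, 0, 1, 1, 2, 2, 3, 5], [1, 3, 3, 4, 4, 5],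
   [0, 0, 1, 2, 2, 3, 4, 4], [2, 3], [3, 4, 5], [0, 2, 5], [0, 0, 1, 1, 2, 2, 3, 4, 4], [0, 0, 3, 3, 4, 5, 5], [0, 0, 2, 3, 5, 5], [0, 0, 2, 3, 4],
   [0, 1, 2, 3, 3, 4, 5], [1, 3, 4, 4], [0, 0, 1, 2, 2, 4, 4, 5], [0, 0, 1, 4, 4], [0, 0, 1, 1, 2, 4], [1, 1, 2, 3, 4, 5, 5], [0, 0, 4, 4, 5, 5], [0, 2, 2, 3, 3, 5, 5],
   [1, 1, 3, 4, 5, 5], [0, 0, 1, 1, 3, 3, 4, 5, 5], [0, 1, 1, 2, 2, 3, 3, 5, 5], [2, 2, 3, 3, 4, 4, 5], [0, 1, 2, 4, 4], [0, 0, 1, 2, 2, 4, 4, 5, 5], [0, 0, 2, 2, 3, 5], [1, 1, 3, 4],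
   [2, 4, 4, 5, 5], [1, 2, 2, 3, 3, 4, 4, 5, 5], [0, 1, 1, 2, 2, 3, 5], [0, 0, 1, 2, 3, 3, 5], [0, 1, 3, 3, 4, 4, 5, 5], [1, 1, 4, 5], [0, 0, 1, 2, 3, 4], [2, 3, 5, 5],
   [2, 2, 4, 5, 5], [1, 1, 2, 2, 3, 5], [0, 4, 4, 5, 5], [1, 2, 3, 3], [1, 1, 2, 2, 3], [0, 4, 4, 5], [0, 0, 2, 2, 3, 3], [0, 0, 2, 2, 3, 3, 4, 5, 5],
   [0, 1, 1, 2, 2, 5, 5], [0, 1, 1, 2, 2, 3, 3, 4, 5], [1, 1, 2, 2, 3, 3], [0, 0, 1, 4, 5], [3, 3, 5, 5], [0, 0, 3, 4], [1, 2, 2, 4, 4, 5], [0, 1, 3, 4],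
   [1, 1, 2, 4, 4, 5, 5], [1, 2, 3, 4], [0, 1, 5, 5], [1, 1, 2, 2, 3, 4, 5, 5], [0, 3, 4], [0, 1, 2, 3, 3, 4, 4], [1, 1, 3, 3], [0, 0, 1, 1, 2, 4, 4],
   [1, 1, 2, 2, 3, 4, 4], [1, 1, 2, 2, 4, 4], [0, 0, 2, 2, 3, 4, 5], [1, 1, 2, 3, 4], [0, 1, 1, 2, 2, 3, 4, 5, 5], [1, 1, 2, 2, 3, 4], [1, 1, 3, 4, 4, 5], [0, 1, 4],
   [0, 1, 3, 3, 4, 4], [1, 1, 2, 2, 3, 3, 4, 5], [0, 2, 3, 4, 5], [0, 1, 1, 3, 3, 4, 4, 5], [1, 2, 2, 5], [2, 3, 5], [0, 0, 2, 3, 3, 4, 5, 5], [1, 2, 2, 3, 3, 4, 5, 5],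
   [0, 0, 1, 1, 2, 3, 3, 4, 4, 5], [0, 2, 3, 4, 4], [2, 5, 5], [0, 0, 1, 2, 3, 4, 4, 5], [2, 5], [1, 1, 2, 4, 5, 5], [4, 4], [0, 3, 3, 4],
   [1, 1, 5, 5], [2, 2, 4, 5], [2, 4, 4, 5], [0, 0, 1], [1, 1, 3, 5, 5], [0, 0, 1, 3, 4, 5, 5], [1, 2, 3, 5], [0, 1, 1, 2, 3, 3, 4, 4, 5, 5],
   [0, 1, 2, 3, 4, 4, 5, 5], [1, 1, 3, 4, 4, 5, 5], [0, 0, 1, 1, 3, 3, 4, 4, 5], [0, 0, 1, 1, 5], [0, 0, 2, 2, 5], [0, 1, 2, 3, 4], [0, 0, 1, 2, 3, 5], [0, 2, 2, 3],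
   [1, 3, 3, 5, 5], [2, 2, 3, 3, 5, 5], [0, 0, 1, 1, 2, 2, 3, 3, 5], [1, 2], [1, 2, 4, 5, 5], [0, 0, 3, 3, 5], [0, 0, 1, 1, 2, 2, 5], [0, 0, 2, 4, 5],
   [1, 2, 3], [1, 2, 2, 3, 3], [0, 1, 1, 3, 3, 4, 5], [0, 1, 1, 2, 2, 3, 4, 4, 5, 5], [0, 3, 3], [0, 2, 3, 3, 4], [1, 3], [0, 0, 3, 4, 4, 5, 5],
   [3, 3], [1, 2, 4, 5], [0, 2, 3, 3, 4, 4], [1, 1, 2, 2, 3, 3, 4], [0, 2, 2, 3, 4], [2, 4, 5], [1, 2, 3, 4, 5], [3, 3, 4, 5, 5],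
   [0, 0, 2, 4, 4], [0, 2, 3, 4, 4, 5], [0, 1, 3], [0, 0, 1, 5], [1, 2, 2, 3], [0, 0, 3, 5], [1, 1, 2, 3, 3, 4, 5], [1, 3, 3, 5],
   [1, 1, 2, 2, 3, 3, 5], [0, 0, 1, 1, 2, 2, 5, 5], [0, 2, 2, 5], [1, 1, 2, 4], [0, 0, 2, 5, 5], [0, 0, 2, 2, 3, 4, 4], [0, 0, 2, 2, 3, 3, 4, 4, 5], [0, 1, 1, 2, 4, 5, 5],
   [0, 1, 1, 2, 3, 5, 5], [1, 2, 3, 3, 4], [1, 3, 3, 4, 4], [0, 2, 2, 3, 4, 5, 5], [1, 1, 2, 2, 5, 5], [0, 0, 1, 2, 2, 4, 5, 5], [0, 0, 1, 3], [1, 4, 5, 5],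
   [0, 2, 2, 3, 3, 4, 4, 5, 5], [1, 2, 3, 4, 4, 5], [0, 2, 3, 4, 5, 5], [1, 1, 2, 2, 3, 3, 4, 4, 5, 5], [1, 3, 3, 4, 4, 5, 5], [1, 2, 5, 5], [0, 0, 1, 2, 4, 4, 5], [2, 3, 4, 4, 5],
   [0, 1, 3, 3, 5, 5], [0, 0, 1, 1, 3, 4, 4, 5], [0, 0, 1, 2, 5, 5], [2, 3, 3, 4, 5, 5], [0, 0, 1, 1, 2, 3, 3, 4, 4, 5, 5], [0, 0, 1, 3, 4, 5], [2, 2, 3, 3, 5], [2, 3, 4, 4],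
   [0, 1, 1, 3, 4], [0, 1, 2, 2, 4, 4, 5, 5], [0, 0, 2, 2, 3], [0, 0, 1, 1, 3, 3, 5], [2, 2, 3, 3, 4, 5], [0, 0, 1, 1, 2, 4, 5, 5], [2, 2], [0, 0, 1, 3, 3, 4, 4, 5],
   [0, 0, 5], [0, 0, 1, 3, 4, 4], [1, 2, 2, 3, 5], [0, 1, 2, 2, 3], [0, 2, 2, 3, 3, 4, 5, 5], [0, 0, 1, 1, 2, 2, 3, 3, 4, 4, 5, 5], [1, 2, 2, 5, 5], [1, 2, 2, 3, 4, 5],
   [0, 1, 1, 2, 2, 4, 4], [0, 0, 2, 2, 3, 4], [2, 2, 3, 5], [0, 0, 1, 2, 3, 3, 4, 4], [0, 1, 2, 5, 5], [0, 0, 2, 3], [0, 1, 1, 2, 2, 3, 4, 4], [0, 0, 3, 3, 4],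
   [0, 1, 1, 2, 2, 3, 3, 5], [0, 1, 4, 5, 5], [2, 2, 3, 3, 4, 5, 5], [2, 2, 5], [0, 0, 4, 5, 5], [0, 2, 3, 5, 5], [0, 1, 1, 5, 5], [2, 2, 4, 4, 5, 5],
   [0, 0, 2, 2, 4, 4, 5, 5], [2, 3, 4, 5, 5], [0, 2, 3, 3, 5], [0, 1, 2, 2, 4, 5, 5], [0, 0, 2, 3, 4, 4, 5, 5], [0, 0, 1, 2, 2, 3, 3, 4, 4, 5, 5], [0, 0, 1, 1, 2, 3, 3, 5], [0, 2, 3, 3],
   [0, 1, 3, 3, 4], [0, 0, 1, 1, 2, 3, 3, 4, 4], [0, 2, 3, 4], [0, 1, 1, 3, 4, 4, 5, 5], [3, 3, 4, 4, 5, 5], [1, 1, 2, 2, 4, 5, 5], [0, 0, 1, 1, 2, 2, 4, 4], [1, 2, 3, 4, 5, 5],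
   [1, 1, 2, 2, 3, 3, 5, 5], [1, 1, 3, 3, 4, 4, 5, 5], [0, 1, 1, 2, 2, 4, 5, 5], [0, 0, 1, 2, 4, 5, 5], [0, 0, 1, 3, 4], [0, 1, 2, 2, 3, 4, 5], [0, 1, 1, 2, 3, 4, 4, 5, 5], [0, 0, 2, 2, 3, 4, 5, 5],
   [0, 1, 4, 5], [3, 3, 5], [0, 0, 1, 1, 2, 2, 3, 4, 5], [0, 3], [1, 4, 4], [0, 0, 1, 1, 3, 4, 5], [0, 1, 1, 4, 5], [0, 0, 1, 1, 2, 3, 3, 4],
   [1, 2, 2], [3, 5], [0, 1, 2, 4], [0, 0, 1, 3, 3], [0, 0, 2, 2, 4, 4], [0, 4], [0, 0, 1, 1, 2, 3, 4, 4, 5, 5], [0, 0, 1, 1, 3, 5, 5],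
   [0, 1, 1, 2, 4, 4], [0, 2, 3, 4, 4, 5, 5], [0, 0, 2, 2, 3, 5, 5], [0, 0, 1, 1, 4, 5, 5], [0, 0, 1, 5, 5], [1, 2, 3, 3, 4, 4, 5, 5], [0, 0, 1, 2, 3, 3, 4, 5, 5], [0, 0, 1, 1, 2, 3, 5],
   [1, 2, 2, 4, 5], [0, 0, 1, 1, 2], [1, 1, 2, 4, 5], [0, 0, 1, 2, 2, 3, 3, 5], [2, 3, 3, 5, 5], [0, 2, 4, 5], [0, 3, 4, 4], [0, 1, 3, 4, 4, 5, 5],
   [0, 0, 1, 1, 2, 2, 3, 3, 4, 5], [0, 1, 1], [1, 2, 3, 5, 5], [0, 1, 1, 2, 2, 3, 3], [1, 1, 2, 3, 3, 5, 5], [0, 1, 2, 2, 4], [1, 1, 2, 5, 5], [3, 5, 5],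
   [0, 2, 4, 4, 5], [0, 1, 2, 2, 3, 3, 4, 4, 5], [0, 0, 1, 1, 2, 4, 5], [1, 1, 2, 2, 3, 3, 4, 5, 5], [0, 0, 2, 2, 4], [0, 0, 3, 3, 4, 5], [0, 2, 2, 4], [0, 0, 2, 3, 5],
   [0, 0, 2, 3, 3, 5], [0, 0, 1, 3, 3, 4, 5], [0, 3, 3, 4, 4, 5], [5], [5, 5], [0, 0, 1, 2, 4, 5], [1, 4, 4, 5, 5], [2, 2, 3, 4],
   [2, 3, 3, 4, 4], [0, 1, 1, 2, 2, 3, 3, 4, 4], [1, 2, 2, 3, 4, 5, 5], [0, 0, 1, 1, 4, 5], [0, 1, 1, 4, 5, 5], [0, 1, 1, 2, 3, 3, 4, 5], [0, 1, 4, 4], [0, 1, 2, 3],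
   [1, 1], [0, 4, 5], [1, 1, 3, 3, 4, 4, 5], [1, 4, 5], [0, 0, 1, 2, 3, 3, 4, 4, 5, 5], [0, 0, 2, 3, 3, 4, 5], [0, 0, 3, 4, 5, 5], [0, 0, 2, 5],
   [2, 4], [0, 0, 4, 4], [0, 2, 4, 4], [0, 1, 2, 2, 4, 4], [0, 1, 1, 2, 2, 3, 4, 5], [0, 1, 2, 2, 3, 4, 5, 5], [1, 1, 2, 5], [0, 0, 2, 3, 4, 4],
   [0, 0, 1, 2, 2, 4], [0, 0, 1, 1, 3, 4], [0, 0, 1, 1, 2, 4, 4, 5, 5], [0, 1, 1, 2, 4], [1, 3, 4, 4, 5], [0, 0, 1, 2, 3, 4, 4], [0, 2, 3, 5], [2, 2, 3, 4, 5, 5],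
   [0, 2, 2, 3, 5], [2, 3, 3, 4, 4, 5], [0, 0, 1, 1, 2, 2, 4, 4, 5], [0, 2, 2, 3, 3, 4, 4, 5], [3, 4, 4, 5, 5], [0, 0, 1, 1, 2, 2, 3, 4, 4, 5], [3, 4], [0, 3, 3, 4, 4],
   [2, 2, 3, 3, 4, 4], [0, 1, 4, 4, 5], [0, 2, 4], [1, 2, 2, 4], [0, 1, 2, 3, 5, 5], [0, 1, 1, 3, 4, 4], [3, 4, 5, 5], [1, 2, 2, 3, 3, 4, 4],
   [1, 1, 2, 2, 3, 4, 4, 5], [1, 1, 4], [1, 2, 2, 3, 4, 4, 5, 5], [0, 1, 1, 2, 2, 3, 3, 4, 4, 5, 5], [0, 0, 1, 1, 3, 3], [0, 0, 1, 2, 3, 3, 4, 5], [0, 0, 1, 1, 2, 3, 4, 4, 5], [1, 1, 2, 3, 4, 4],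
   [0, 1, 1, 2, 3, 3, 4, 5, 5], [0, 2, 2, 4, 5, 5], [0, 0], [3, 4, 4], [2, 3, 3, 4], [0, 0, 1, 1, 2, 2, 3, 4, 5, 5], [0, 1, 3, 3, 5], [0, 1, 2],
   [2, 3, 4, 5], [0, 0, 1, 3, 5, 5], [0, 0, 3, 3], [0, 0, 1, 1], [1, 3, 5, 5], [0, 1, 2, 3, 3, 4, 5, 5], [0, 1, 2, 3, 4, 5], [0, 3, 3, 4, 5],
   [0, 0, 1, 1, 2, 2, 3, 3, 4, 5, 5], [1, 1, 3, 3, 5, 5], [0, 0, 2, 3, 4, 5, 5], [2, 2, 4, 4, 5], [1, 1, 3, 3, 4], [0, 0, 1, 3, 3, 4, 5, 5], [1, 1, 2, 3, 4, 4, 5, 5], [4, 4, 5],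
   [0, 1, 1, 3, 3, 4, 5, 5], [0, 3, 4, 5, 5], [1, 5, 5], [0, 0, 1, 2, 3, 3, 5, 5], [1, 5], [1, 1, 3, 3, 4, 5], [0, 0, 1, 3, 3, 5, 5], [1, 1, 3],
   [1, 2, 2, 3, 4, 4], [0, 2, 3, 3, 4, 5], [1, 1, 2, 2, 3, 4, 4, 5, 5], [0, 2, 2, 5, 5], [0, 0, 3, 4, 4], [0, 0, 1, 1, 2, 5], [0, 0, 1, 3, 4, 4, 5, 5], [1, 1, 2, 3],
   [1, 2, 2, 3, 3, 5], [0, 1, 1, 2, 3, 5], [0, 1, 2, 4, 5], [1, 1, 3, 5], [0, 0, 1, 2], [0, 3, 3, 4, 5, 5], [1, 2, 3, 3, 4, 4, 5], [0, 1, 3, 3, 4, 5, 5],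
   [0, 0, 2, 2, 3, 3, 4, 4, 5, 5], [0, 1, 1, 2, 2, 4], [0, 0, 2, 2, 3, 4, 4, 5], [0, 0, 1, 2, 2, 3, 3, 5, 5], [0, 1, 1, 2, 3, 4, 5], [0, 0, 1, 1, 2, 2, 3, 3], [0, 1, 2, 3, 3], [4, 4, 5, 5],
   [0, 0, 1, 1, 2, 2, 4, 5, 5], [0, 3, 3, 5], [0, 0, 1, 1, 2, 3, 3, 4, 5, 5], [0, 1, 2, 3, 4, 5, 5], [0, 1, 1, 4, 4, 5], [1, 1, 2, 3, 3, 4, 5, 5], [0, 0, 1, 2, 2, 3, 3, 4, 4], [1, 3, 4, 4, 5, 5],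
   [1, 1, 3, 3, 5], [1, 2, 3, 4, 4, 5, 5], [0, 0, 1, 1, 5, 5], [0, 1, 1, 3, 4, 5], [2, 2, 3, 3, 4, 4, 5, 5], [0, 1, 2, 3, 3, 5, 5], [0, 0, 3, 4, 5], [0, 0, 1, 1, 2, 2, 3, 3, 4, 4, 5],
   [0, 2, 3, 3, 4, 4, 5], [0, 1, 3, 5, 5], [2, 2, 3, 4, 4, 5, 5], [0, 0, 2, 4, 5, 5], [0, 0, 2, 4, 4, 5], [0, 0, 1, 1, 2, 2, 4, 5], [1, 1, 2, 2, 4, 5], [0, 3, 5, 5],
   [0, 0, 4, 4, 5], [0, 0, 1, 3, 3, 4, 4], [3, 3, 4, 4], [3, 3, 4, 5], [0, 5], [0, 0, 1, 1, 2, 3, 5, 5], [0, 0, 3, 5, 5], [0, 5, 5],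
   [0, 3, 4, 5], [2, 2, 3], [2, 3, 3], [0, 0, 1, 1, 2, 2, 3, 4, 4, 5, 5], [0, 1, 1, 2, 2, 4, 4, 5, 5], [0, 0, 1, 1, 2, 3, 3], [0, 0, 2, 3, 3, 4], [0, 1, 3, 4, 4],
   [0, 0, 1, 2, 3, 4, 4, 5, 5], [0, 0, 1, 1, 3, 4, 4, 5, 5], [1, 1, 2, 2], [0, 0, 1, 1, 3], [0, 0, 1, 2, 4, 4], [0, 3, 4, 4, 5], [0, 1, 1, 2, 4, 4, 5, 5], [0, 0, 4, 5],
   [1, 1, 2, 3, 5, 5], [0, 1, 2, 2, 3, 3, 5, 5], [0, 1, 2, 3, 3, 4], [1, 1, 2, 2, 3, 3, 4, 4], [0, 0, 1, 2, 3, 3], [0, 1, 2, 2, 3, 3, 4, 4], [1, 1, 2, 3, 3, 5], [0, 0, 1, 1, 2, 4, 4, 5],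
   [0, 1, 1, 2, 3, 4, 5, 5], [0, 0, 2, 2, 4, 5, 5], [1, 2, 2, 3, 3, 4, 4, 5], [0, 0, 2, 3, 3, 5, 5], [2, 2, 3, 4, 4], [0, 0, 2, 3, 4, 5], [0, 2, 2, 3, 3, 4, 5], [1, 1, 4, 5, 5],
   [0, 1, 1, 2, 2, 3, 4], [0, 1, 2, 2, 3, 3], [0, 1, 1, 4, 4], [1, 1, 5], [1, 2, 3, 3, 4, 5], [0, 1, 2, 2, 3, 5], [0, 1, 1, 2, 3, 4, 4, 5], [0, 1, 1, 2, 3, 3, 4, 4],
   [1, 3, 3, 4, 5, 5], [0, 0, 2, 2, 3, 3, 4], [0, 1, 3, 3, 4, 5], [0, 1, 1, 2, 2, 3], [0, 3, 5], [0, 3, 4, 4, 5, 5], [0, 2, 2, 3, 3, 5], [0, 1, 1, 2, 2, 4, 5],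
   [1, 2, 4, 4, 5, 5], [0, 0, 1, 1, 3, 5], [0, 2, 2, 4, 4, 5, 5], [0, 0, 2, 3, 3, 4, 4], [1, 1, 4, 4], [0, 0, 2, 3, 3], [0, 1, 3, 4, 4, 5], [0, 1, 1, 2, 4, 4, 5],
   [0, 0, 1, 1, 3, 3, 5, 5], [1, 1, 4, 4, 5, 5], [0, 0, 1, 3, 5], [0, 0, 2, 2, 4, 5], [0, 0, 1, 4], [0, 0, 1, 2, 2, 4, 5], [2, 3, 3, 4, 5], [0, 1, 3, 3],
   [0, 0, 1, 1, 3, 3, 4, 4, 5, 5], [0, 1, 1, 2, 4, 5], [3, 3, 4, 4, 5], [0, 1, 2, 5], [0, 1, 2, 3, 3, 4, 4, 5, 5], [4, 5], [1, 3, 4, 5], [0, 0, 2, 2],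
   [0, 1, 1, 2, 3, 3, 5, 5], [0, 0, 1, 1, 2, 3, 3, 4, 5], [0, 0, 2], [0, 0, 1, 2, 2, 3, 3, 4, 4, 5], [0, 0, 5, 5], [0, 1, 2, 2, 3, 3, 4, 4, 5, 5], [0, 0, 1, 2, 2, 3, 5, 5], [0, 2, 2, 3, 5, 5],
   [0, 0, 2, 3, 3, 4, 4, 5, 5], [0, 0, 2, 2, 3, 3, 5], [0, 2, 5, 5], [0, 1, 1, 3, 3, 4, 4], [0, 0, 1, 2, 2, 3], [1, 2, 3, 3, 5, 5], [1, 1, 2, 2, 4], [0, 1, 2, 4, 5, 5],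
   [1, 2, 2, 3, 3, 4, 5], [1, 1, 2, 3, 3], [2, 4, 5, 5], [0, 0, 1, 2, 2, 3, 3], [0, 0, 1, 1, 3, 3, 4], [1, 2, 4, 4], [0, 0, 1, 4, 4, 5, 5], [1, 3, 5],
   [0, 1, 3, 4, 5], [1, 1, 2, 3, 3, 4, 4, 5], [0, 1, 1, 2, 2, 3, 3, 4, 5, 5], [0, 0, 1, 1, 2, 3, 3, 5, 5], [1, 1, 2, 3, 3, 4, 4], [0, 0, 1, 2, 3, 5, 5], [0, 0, 1, 1, 2, 5, 5], [0, 0, 3, 3, 5, 5],
   [1, 4], [0, 1, 1, 2, 3, 3], [0, 2, 2, 4, 4], [1, 2, 3, 3, 4, 4], [0, 1, 1, 2, 3, 4, 4], [1, 1, 2, 2, 4, 4, 5, 5], [0, 0, 1, 1, 4, 4, 5], [0, 0, 1, 1, 2, 3],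
   [0, 1, 1, 3, 3, 4], [0, 1, 1, 2, 5], [0, 0, 1, 2, 3, 4, 5], [0, 0, 1, 2, 3, 3, 4, 4, 5], [1, 2, 2, 4, 4, 5, 5], [0, 1, 2, 4, 4, 5, 5], [1, 1, 2, 4, 4], [0, 1, 1, 2],
   [1, 2, 2, 3, 4], [2, 3, 3, 5], [0, 1, 2, 3, 4, 4], [0, 1], [0, 2, 2, 3, 3, 4, 4], [0, 0, 1, 1, 4, 4, 5, 5], [0, 1, 2, 2, 4, 4, 5], [1, 3, 3, 4],
   [0, 1, 1, 2, 2], [4, 5, 5], [1, 3, 4], [0, 1, 2, 2, 5, 5], [0, 1, 1, 3], [0, 1, 2, 3, 4, 4, 5], [0, 1, 2, 2, 3, 4], [0, 0, 1, 2, 3, 3, 4],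
   [0, 0, 2, 2, 3, 3, 5, 5], [0, 0, 1, 1, 3, 4, 4], [0, 0, 1, 2, 4, 4, 5, 5], [0, 2, 2, 3, 3, 4], [1, 1, 2, 3, 3, 4], [0, 0, 1, 1, 3, 4, 5, 5], [0, 2, 3, 3, 4, 4, 5, 5], [1, 1, 3, 3, 4, 4],
   [0, 3, 3, 5, 5], [0, 1, 3, 5], [0, 0, 2, 4, 4, 5, 5], [0, 0, 1, 1, 2, 3, 4, 5, 5], [0, 0, 1, 3, 3, 4], [0, 1, 1, 3, 5], [1, 2, 2, 4, 5, 5], [1, 2, 3, 3, 5],
   [1, 1, 2, 2, 3, 3, 4, 4, 5], [3, 3, 4], [1, 2, 2, 3, 3, 5, 5], [0, 2, 3, 3, 4, 5, 5], [0, 2, 2, 3, 4, 4, 5], [0, 0, 1, 2, 2], [0, 0, 3, 4, 4, 5], [0, 0, 3, 3, 4, 4, 5],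
   [0, 1, 2, 2, 3, 5, 5], [0, 1, 2, 2, 5], [0, 0, 3, 3, 4, 4], [0, 0, 3], [0, 2, 4, 5, 5], [0, 0, 1, 2, 4], [0, 0, 1, 1, 2, 2, 3, 3, 5, 5], [0, 2, 2, 3, 3],
   [0, 1, 1, 4], [0, 0, 1, 4, 5, 5], [0, 1, 1, 2, 2, 3, 5, 5], [0, 0, 2, 2, 3, 3, 4, 4], [0, 0, 2, 2, 3, 4, 4, 5, 5], [1, 1, 2, 2, 4, 4, 5], [0, 4, 5, 5], [0, 0, 4],
   [0, 2, 2], [0, 1, 1, 2, 2, 4, 4, 5], [1, 4, 4, 5], [0, 0, 2, 3, 4, 4, 5], [0, 2, 2, 3, 4, 4, 5, 5], [0, 0, 1, 1, 2, 2, 4, 4, 5, 5], [0, 0, 1, 2, 3], [0, 1, 1, 2, 3],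
   [0, 2, 3], [0, 2], [0, 0, 2, 2, 3, 3, 4, 5], [0, 2, 2, 4, 5], [0, 0, 1, 2, 2, 5], [0, 0, 1, 1, 2, 2, 3, 3, 4], [0, 0, 2, 4], [0, 0, 1, 2, 2, 3, 3, 4],
   [0, 0, 1, 2, 3, 4, 5, 5], [0, 0, 1, 1, 2, 2, 3, 3, 4, 4], [0, 0, 1, 2, 5], [1, 2, 3, 3, 4, 5, 5], [0, 3, 3, 4, 4, 5, 5], [1, 1, 2], [0, 1, 2, 2, 3, 4, 4], [0, 2, 4, 4, 5, 5],
   [0, 0, 1, 3, 3, 5], [0, 0, 1, 1, 4], [0, 0, 1, 4, 4, 5], [0, 1, 5], [0, 1, 1, 2, 2, 5], [0, 0, 2, 2, 5, 5], [2, 3, 4], [1, 1, 2, 4, 4, 5],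
   [0, 0, 1, 3, 3, 4, 4, 5, 5], [0, 1, 1, 3, 4, 4, 5], [0, 0, 1, 1, 3, 3, 4, 5], [1, 2, 2, 4, 4], [2, 2, 3, 5, 5], [0, 0, 1, 2, 2, 3, 3, 4, 5], [0, 1, 2, 3, 3, 4, 4, 5], [0, 1, 2, 2, 3, 4, 4, 5, 5],
   [0, 0, 1, 3, 4, 4, 5], [1, 2, 3, 4, 4], [1, 2, 2, 3, 3, 4], [0, 0, 1, 1, 3, 3, 4, 4], [2, 2, 4, 4], [0, 0, 1, 2, 2, 3, 4, 5, 5], [0, 1, 1, 3, 3, 4, 4, 5, 5], [0, 1, 1, 2, 3, 3, 4, 4, 5],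
   [1, 1, 2, 2, 5], [0, 0, 1, 1, 2, 3, 4, 4], [0, 1, 2, 4, 4, 5], [0, 0, 1, 1, 2, 3, 4], [0, 1, 3, 4, 5, 5], [0, 1, 1, 2, 2, 3, 3, 4], [0, 0, 1, 1, 2, 2, 3, 4], [0, 0, 1, 2, 2, 3, 4, 5],
   [0, 1, 1, 3, 4, 5, 5]]

end Cfsg.Agent.J3
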