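import Cfsg.Agent.Lib.Schur.TailsMod

/-!
A Sylow 2-subgroup of the triple cover of J₃: pc generators, their conjugates under further elements,
and the certificate that the tails of a central extension can be removed.
-/

set_option autoImplicit false
set_option maxRecDepth 20000

namespace Cfsg.Agent.J3

open Cfsg.Agent.Schur.TailsMod

/-- The matrices: the generators, then the further elements. -/
def tlTwoMat : List ℕ :=
  [0x62150e6cfea24f6a404beeb348ec285e544f45ed,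
   0x201016113004435007031148010c010240a,
   0x100200100002100202000801010001000,
   0x879d3a632a134711c5c3cc7b4c2bc38b726e8eee,
   0x80c3819e5a62ce132158c450403828339ee11633,
   0x341b0d01381c11171515012126439badc806afc5,
   0x2060c01c9650512d2611b62b80fd6fb68770eae,
   0x299bd14bfabc49526fbff84777b7dbc05e8721d20,
   0x7a7a74108f0a73b4438fdf2c795b0b626461eb91,
   0x1b5bdc4102b1420c8994ca116ef5b8e17040cc239]

/-- Their coordinates. -/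
def tlTwoCoord : List (ℕ × ℕ) := [(20563, 5437), (4004, 3391), (23054, 6218), (9061, 5970), (1021, 896), (13997, 6345), (10142, 4972), (13493, 5864), (500, 3685), (12900, 1114)]

/-- The data. -/
def tlTwoData : PData where
  n := 7
  p := 2
  nmaps := 3
  pw k := ([[3, 6], [], [], [6], [6], [], []] : List (List ℕ)).getD k []
  cj j k := (([[[], [1, 3, 4], [2, 3, 6], [3], [4, 5, 6], [5, 6], [6]],
    [[], [], [2], [3, 5], [4, 5, 6], [5], [6]],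
    [[], [], [], [3, 6], [4, 5], [5], [6]],
    [[], [], [], [], [4, 6], [5], [6]],
    [[], [], [], [], [], [5], [6]],
    [[], [], [], [], [], [], [6]],
    [[], [], [], [], [], [], []]] :
    List (List (List ℕ))).getD j []).getD k []
  img l k := (([[[0, 1, 3, 4, 5, 6], [2, 3, 5, 6], [1, 2, 4, 6], [4, 5], [3, 4, 6], [5, 6], [6]],
    [[], [], [], [4, 5], [0, 2, 3, 4, 6], [0, 2, 4], [6]],
    [[], [], [], [], [], [1, 2, 6], [2, 5]]] :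
    List (List (List ℕ))).getD l []).getD k []
  adj k := ([[], [], [], [1, 0, 0, 1], [1, 0, 0, 1, 0, 0, 0, 1], [0, 0, 0, 0, 0, 0, 0, 0, 0, 0, 0, 1], [0, 0, 0, 1]] : List (List ℕ)).getD k []

/-- The rules in the order of their tails. -/
def tlTwoRules : List Rule := [.pw 0, .pw 1, .pw 2, .pw 3, .pw 4, .pw 5, .pw 6, .cj 0 1,
   .cj 0 2, .cj 1 2, .cj 0 3, .cj 1 3, .cj 2 3, .cj 0 4, .cj 1 4, .cj 2 4,
   .cj 3 4, .cj 0 5, .cj 1 5, .cj 2 5, .cj 3 5, .cj 4 5, .cj 0 6, .cj 1 6,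
   .cj 2 6, .cj 3 6, .cj 4 6, .cj 5 6]

/-- The equations used. -/
def tlTwoEqs : List Lab :=
  [.fus (.pw 0) 0, .fus (.pw 1) 0, .fus (.pw 2) 0, .fus (.pw 3) 0,
   .fus (.pw 4) 0, .fus (.pw 5) 0, .fus (.cj 0 2) 0, .fus (.cj 1 2) 0,
   .fus (.cj 0 3) 0, .fus (.cj 1 3) 0, .fus (.cj 2 3) 0, .fus (.cj 0 4) 0,
   .fus (.cj 1 4) 0, .fus (.cj 2 4) 0, .fus (.cj 3 4) 0, .fus (.cj 0 5) 0,
   .fus (.cj 1 5) 0, .fus (.cj 2 5) 0, .fus (.cj 3 5) 0, .fus (.cj 4 5) 0,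
   .fus (.cj 1 6) 0, .fus (.cj 2 6) 0, .fus (.cj 3 6) 0, .fus (.cj 4 6) 0,
   .fus (.pw 3) 1, .fus (.pw 4) 1, .fus (.cj 3 4) 1, .fus (.pw 5) 2]

/-- The derivations. -/
def tlTwoSel : List (List (ℕ × ℕ)) :=
  [[], [(1, 1), (2, 1), (5, 1), (8, 1), (11, 1), (13, 1), (15, 1), (21, 1), (24, 1), (26, 1), (27, 1)],
   [(2, 1), (4, 1), (5, 1), (7, 1), (8, 1), (11, 1), (12, 1), (15, 1), (16, 1), (18, 1), (20, 1), (24, 1), (26, 1), (27, 1)], [],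
   [(5, 1), (8, 1), (10, 1), (11, 1), (13, 1), (14, 1), (15, 1), (17, 1), (18, 1), (19, 1), (23, 1), (24, 1), (26, 1)], [(3, 1), (5, 1), (8, 1), (9, 1), (11, 1), (14, 1), (15, 1), (16, 1), (17, 1), (19, 1), (21, 1), (22, 1), (24, 1), (26, 1)],
   [(9, 1), (10, 1), (13, 1), (14, 1), (16, 1), (18, 1), (19, 1), (21, 1), (23, 1)], [],
   [(0, 1), (6, 1), (7, 1), (8, 1), (11, 1), (13, 1), (14, 1), (18, 1), (19, 1), (20, 1), (21, 1), (22, 1), (23, 1), (24, 1), (25, 1), (27, 1)], [(1, 1), (3, 1), (4, 1), (7, 1), (8, 1), (9, 1), (11, 1), (12, 1), (13, 1), (14, 1), (15, 1), (17, 1), (18, 1), (19, 1), (22, 1), (23, 1), (24, 1), (26, 1), (27, 1)],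
   [(3, 1), (7, 1), (8, 1), (9, 1), (12, 1), (16, 1), (18, 1), (19, 1), (21, 1), (22, 1), (24, 1), (26, 1)], [],
   [(3, 1), (4, 1), (5, 1), (7, 1), (8, 1), (9, 1), (11, 1), (12, 1), (13, 1), (14, 1), (15, 1), (16, 1), (24, 1), (26, 1)], [(0, 1), (2, 1), (6, 1), (7, 1), (8, 1), (9, 1), (12, 1), (14, 1), (16, 1), (18, 1), (20, 1), (22, 1), (23, 1)],
   [(3, 1), (4, 1), (5, 1), (7, 1), (8, 1), (9, 1), (10, 1), (11, 1), (14, 1), (15, 1), (16, 1), (17, 1), (18, 1), (19, 1), (20, 1), (21, 1), (24, 1), (26, 1)], [(3, 1), (8, 1), (9, 1), (11, 1), (12, 1), (13, 1), (15, 1), (16, 1), (17, 1), (20, 1), (21, 1), (23, 1), (24, 1), (26, 1)],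
   [(4, 1), (9, 1), (10, 1), (13, 1), (16, 1), (19, 1), (21, 1), (22, 1), (23, 1)], [(0, 1), (2, 1), (3, 1), (6, 1), (7, 1), (8, 1), (9, 1), (13, 1), (14, 1), (16, 1), (18, 1), (19, 1), (24, 1), (26, 1)],
   [(5, 1), (9, 1), (10, 1), (13, 1), (14, 1), (16, 1), (17, 1), (20, 1), (21, 1), (22, 1)], [(5, 1), (9, 1), (10, 1), (13, 1), (14, 1), (17, 1), (19, 1), (22, 1), (23, 1)],
   [(19, 1), (22, 1)], [(18, 1), (19, 1), (23, 1)],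
   [(9, 1), (10, 1), (13, 1), (15, 1), (16, 1), (17, 1), (20, 1), (21, 1), (22, 1)], [(5, 1), (9, 1), (10, 1), (13, 1), (14, 1), (16, 1), (18, 1), (19, 1), (22, 1)],
   [(20, 1), (21, 1), (22, 1)], [(23, 1)],
   [(5, 1), (9, 1), (10, 1), (13, 1), (14, 1), (16, 1), (18, 1), (19, 1), (21, 1), (22, 1)], [(5, 1), (9, 1), (10, 1), (13, 1), (14, 1), (16, 1), (18, 1), (19, 1), (21, 1), (23, 1)]]

/-- A word for each element of the subgroup, by increasing matrices. -/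
def tlTwoWords : List (List ℕ) :=
  [[], [2], [1], [1, 2], [1, 2, 6], [6], [2, 6], [1, 6],
   [1, 2, 5], [1, 5], [2, 5], [5], [1, 2, 5, 6], [2, 5, 6], [5, 6], [1, 5, 6],
   [0], [0, 2, 3, 6], [0, 1, 2, 4, 5], [0, 1, 3, 4], [0, 2], [0, 3], [0, 1, 4], [0, 1, 2, 3, 4, 5, 6],
   [1, 2, 4], [4], [2, 4], [1, 4], [1, 3], [2, 3], [1, 2, 3], [3],
   [1, 2, 4, 6], [4, 6], [1, 4, 6], [2, 4, 6], [1, 3, 4, 6], [2, 3, 4, 6], [3, 4, 6], [1, 2, 3, 4, 6],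
   [1, 3, 4, 5, 6], [2, 3, 4, 5, 6], [1, 2, 3, 4, 5, 6], [3, 4, 5, 6], [1, 3, 5, 6], [2, 3, 5, 6], [3, 5, 6], [1, 2, 3, 5, 6],
   [0, 2, 6], [0, 1, 2, 3, 4, 5], [0, 3, 6], [0, 1, 4, 6], [0, 1, 2, 6], [0, 2, 3, 4, 5, 6], [0, 1, 3, 5, 6], [0, 4, 5],
   [0, 1, 6], [0, 3, 4], [0, 2, 4], [0, 1, 2, 3, 5], [0, 6], [0, 1, 3, 4, 6], [0, 2, 3], [0, 1, 2, 4, 5, 6],
   [1, 4, 5], [2, 4, 5], [4, 5], [1, 2, 4, 5], [1, 4, 5, 6], [2, 4, 5, 6], [1, 2, 4, 5, 6], [4, 5, 6],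
   [1, 2, 3, 5], [3, 5], [2, 3, 5], [1, 3, 5], [1, 2, 3, 4, 5], [3, 4, 5], [2, 3, 4, 5], [1, 3, 4, 5],
   [3, 4], [1, 2, 3, 4], [1, 3, 4], [2, 3, 4], [3, 6], [1, 2, 3, 6], [2, 3, 6], [1, 3, 6],
   [0, 1], [0, 1, 2, 3, 5, 6], [0, 2, 4, 6], [0, 3, 4, 6], [0, 1, 2], [0, 1, 3, 5], [0, 4, 5, 6], [0, 2, 3, 4, 5],
   [0, 4, 6], [0, 1, 2, 5], [0, 1, 3], [0, 2, 3, 4], [0, 2, 4, 5, 6], [0, 1, 5], [0, 1, 2, 3, 6], [0, 3, 4, 5, 6],
   [0, 1, 2, 4], [0, 1, 4, 5], [0, 5], [0, 2, 5], [0, 2, 3, 5, 6], [0, 3, 5], [0, 1, 2, 3, 4, 6], [0, 1, 3, 4, 5],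
   [0, 3, 5, 6], [0, 1, 4, 5, 6], [0, 1, 2, 3, 4], [0, 2, 5, 6], [0, 3, 4, 5], [0, 2, 4, 5], [0, 1, 2, 3], [0, 1, 5, 6],
   [0, 2, 3, 4, 6], [0, 4], [0, 1, 3, 6], [0, 1, 2, 5, 6], [0, 2, 3, 5], [0, 1, 3, 4, 5, 6], [0, 1, 2, 4, 6], [0, 5, 6]]

end Cfsg.Agent.J3
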