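import Cfsg.Agent.Lib.J3.IsoDef

/-!
# The table of isotropic codes
-/

set_option autoImplicit false

namespace Cfsg.Agent.J3

open Cfsg.Agent.Presented (checkBelow)

theorem smallTabChk_all : checkBelow smallTabChk 10 512 = true := by decide +kernel

theorem isoPosChk_all : checkBelow isoPosChk 19 262144 = true := by decide +kernel

end Cfsg.Agent.J3
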