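import Cfsg.Agent.Lib.J3.Tables
import Cfsg.Agent.Lib.J3.DataIso

/-!
# The isotropic lines
-/

set_option autoImplicit false

namespace Cfsg.Agent.J3

open Cfsg.Agent.Presented (force checkBelow checkBlock checkBelow_of_block checkBlock_join)

/-- The packed vector with a given code of 18 bits. -/
noncomputable def vecN (c : ℕ) : ℕ :=
  spreadTab.get 81 (c % 512) ||| spreadTab.get 81 (c / 512) <<< 81

/-- The support of a code. -/
def suppN (c : ℕ) : ℕ := c % 512 ||| c / 512

/-- The listed lines form one orbit. -/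
noncomputable def isoStepChk (i : ℕ) : Bool :=
  Nat.beq i 0 || force (isoPar.get 20 i) fun q => force (q % 65536) fun a =>
    Nat.blt a i && Nat.blt 0 (q / 131072) && Nat.blt (q / 131072) 4 &&
    Nat.beq (mul9 (genN (q / 65536 % 2)) (vecN (isoCode.get 18 a)))
      (scMul (q / 131072) (vecN (isoCode.get 18 i)))

/-- An isotropic code with distinguished entry one is listed. -/
noncomputable def isoPosChk (c : ℕ) : Bool :=
  force (suppN c) fun n => force (parityTab.get 1 n) fun r => force (leadTab.get 4 n) fun p =>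
    Nat.beq n 0 || Nat.beq r 1 || !(Nat.beq ((c >>> p) % 2) 1 && Nat.beq ((c >>> (9 + p)) % 2) 0) ||
      force (isoPos.get 16 c) fun i => Nat.blt i 43605 && Nat.beq (isoCode.get 18 i) c

/-- The small tables are correct. -/
noncomputable def smallTabChk (b : ℕ) : Bool :=
  force (spreadTab.get 81 b) fun s =>
    Nat.blt s (Nat.pow 2 81) &&
    (List.range 9).all (fun i => Nat.testBit s (9 * i) == Nat.testBit b i) &&
    Nat.beq (parityTab.get 1 b)
      ((Nat.testBit b 0 ^^ (Nat.testBit b 1 ^^ (Nat.testBit b 2 ^^ (Nat.testBit b 3 ^^ (Nat.testBit b 4 ^^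
        (Nat.testBit b 5 ^^ (Nat.testBit b 6 ^^ (Nat.testBit b 7 ^^ Nat.testBit b 8)))))))).toNat) &&
    (Nat.beq b 0 || (Nat.blt (leadTab.get 4 b) 9 && Nat.testBit b (leadTab.get 4 b)))

end Cfsg.Agent.J3
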