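import Cfsg.Agent.Lib.J3.IsoDef

/-!
# The orbit of isotropic lines, block 2
-/

set_option autoImplicit false

namespace Cfsg.Agent.J3

theorem isoStep_block2 : Presented.checkBlock isoStepChk 43605 14 32768 = true := by decide +kernel

end Cfsg.Agent.J3
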