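import Cfsg.Agent.Lib.J3.Check
import Cfsg.Agent.Lib.J3.DataTailsTwo
import Cfsg.Agent.Lib.J3.DataTailsThree

/-!
The checks on the two Sylow subgroups of the triple cover used for the multiplier.
-/

set_option autoImplicit false

namespace Cfsg.Agent.J3

open Cfsg.Agent.Schur.TailsMod
open Cfsg.Agent.Presented (force)

/-- The matrix with a given index. -/
noncomputable def tlMat (L : List ℕ) (i : ℕ) : ℕ := L.getD i 0

/-- The product of a word in the matrices. -/
noncomputable def evMat (L : List ℕ) (w : List ℕ) : ℕ :=
  w.foldr (fun a acc => force acc fun u => mul9 (tlMat L a) u) (scN 1)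

/-- The matrices of a list of words increase. -/
noncomputable def incChk (L : List ℕ) : List (List ℕ) → ℕ → Bool
  | [], _ => true
  | w :: ws, b => force (evMat L w) fun v => Nat.blt b v && Nat.blt v (2 ^ 162) && incChk L ws v

/-- The elements: their coordinates and their matrices. -/
noncomputable def coordChk (L : List ℕ) (C : List (ℕ × ℕ)) (m : ℕ) : Bool :=
  (List.range m).all fun i => Nat.blt (C.getD i (0, 0)).1 23256 && Nat.blt (C.getD i (0, 0)).2 6480 &&
    Nat.beq (mul9 (trN (C.getD i (0, 0)).1) (stN (C.getD i (0, 0)).2)) (tlMat L i)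

/-- The relations and the images. -/
noncomputable def relChk (T : PData) (L : List ℕ) (R : List Rule) : Bool :=
  T.okB && (R.all fun r => Nat.beq (evMat L (T.lhs r)) (evMat L (T.rhs r))) &&
  (List.range T.nmaps).all fun l => (List.range T.n).all fun k => (T.img l k).isEmpty ||
    (T.below (T.img l k) && Nat.beq (mul9 (tlMat L (T.n + l)) (tlMat L k))
      (mul9 (evMat L (T.img l k)) (tlMat L (T.n + l))))

/-- The list of rules is complete and in order. -/
def rulesChk (T : PData) (R : List Rule) : Bool :=
  decide (R.length = T.n + T.n * (T.n - 1) / 2) && (List.range T.n).all fun k =>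
    decide (R.getD (T.var (.pw k)) (.pw T.n) = .pw k) &&
      (List.range k).all fun j => decide (R.getD (T.var (.cj j k)) (.pw T.n) = .cj j k)

/-- The tails can be removed. -/
def derChk (T : PData) (R : List Rule) (E : List Lab) (S : List (List (ℕ × ℕ))) : Bool :=
  (List.range R.length).all fun i => T.derived E (T.tgt (R.getD i (.pw T.n))) (S.getD i [])

/-- Everything. -/
noncomputable def tailsChk (T : PData) (L : List ℕ) (C : List (ℕ × ℕ)) (R : List Rule) (E : List Lab)
    (S : List (List (ℕ × ℕ))) (W : List (List ℕ)) : Bool :=
  coordChk L C (T.n + T.nmaps) && relChk T L R && rulesChk T R && derChk T R E S &&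
    decide (W.length = T.p ^ T.n) && W.all T.below && incChk L W 0

theorem tlTwo_chk :
    tailsChk tlTwoData tlTwoMat tlTwoCoord tlTwoRules tlTwoEqs tlTwoSel tlTwoWords = true := by
  decide +kernel

theorem tlThree_chk :
    tailsChk tlThreeData tlThreeMat tlThreeCoord tlThreeRules tlThreeEqs tlThreeSel tlThreeWords = true := by
  decide +kernel

end Cfsg.Agent.J3
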