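import Cfsg.Agent.Lib.J3.MultDef
import Cfsg.Agent.Lib.J3.InvolutionsTransfer
import Cfsg.Agent.Lib.Schur.Exponent
import Cfsg.Agent.Lib.Schur.SylowLocal
import Cfsg.Agent.Lib.Schur.PerfectCover

/-!
# The multiplier of J₃

The triple cover is perfect and has no stem extension: at 2 and 3 the tails of a central extension
over a Sylow subgroup can be removed, the other primes divide the order once.
-/

set_option autoImplicit false
set_option maxHeartbeats 400000

namespace Cfsg.Agent.J3

open Cfsg.Agent.G2Four (K4)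
open Cfsg.Agent.Schur.TailsMod
open scoped commutatorElement

attribute [local irreducible] trN stN genN stGen nvN infoScal infoLead Cfsg.Agent.Presented.NTree.get

theorem isCommutator_eq_top : commutator G9 = ⊤ := by
  refine eq_top_of_not_le fun hle => ?_
  obtain ⟨hne, hxy, hyx⟩ := noncomm
  have hcm : ⁅gX, gY⁆ ∈ commutator G9 :=
    Subgroup.commutator_mem_commutator (Subgroup.mem_top _) (Subgroup.mem_top _)
  obtain ⟨c, hc⟩ := scalar_of_normal_le hle hcm
  have hz : ⁅gX, gY⁆ ∈ Subgroup.center G9 := mem_center_of_scalar hc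
  -- a central commutator of elements of order 19 has order dividing 19 and 3
  have h3 : ⁅gX, gY⁆ ^ 3 = 1 := by
    have h := pow_card_eq_one' (G := Subgroup.center G9) (x := ⟨_, hz⟩)
    rw [card_center] at h
    exact congrArg Subtype.val h
  have h19 : ⁅gX, gY⁆ ^ 19 = 1 := by
    have hcomm : Commute ⁅gX, gY⁆ gX := (Subgroup.mem_center_iff.1 hz gX).symm
    have e : gY * gX * gY⁻¹ = ⁅gX, gY⁆⁻¹ * gX := by
      rw [commutatorElement_def]; group
    have e2 : (gY * gX * gY⁻¹) ^ 19 = 1 := by rw [conj_pow, gX_pow, mul_one, mul_inv_cancel]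
    rw [e, hcomm.inv_left.mul_pow, gX_pow, mul_one, inv_pow, inv_eq_one] at e2
    exact e2
  have h1 : ⁅gX, gY⁆ = 1 := by
    have h := pow_gcd_eq_one.2 ⟨h3, h19⟩
    rwa [show Nat.gcd 3 19 = 1 from rfl, pow_one] at h
  refine hne (dec_inj hxy hyx ?_)
  rw [dec_mul9, dec_mul9, ← mat_gX, ← mat_gY, ← map_mul, ← map_mul,
    commutatorElement_eq_one_iff_mul_comm.1 h1]

/-- An element with a given matrix. -/
noncomputable def elOf (M : ℕ) : G9 :=
  open Classical in if h : InG (dec M) then (exists_mat h).choose else 1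

theorem mat_elOf {M : ℕ} (h : InG (dec M)) : mat (elOf M) = dec M := by
  rw [elOf, dif_pos h]
  exact (exists_mat h).choose_spec

theorem evMat_cons (L : List ℕ) (a : ℕ) (w : List ℕ) :
    evMat L (a :: w) = mul9 (tlMat L a) (evMat L w) := by
  show Presented.force _ _ = _
  rw [Presented.force_eq]
  rfl

theorem mat_ev {L : List ℕ} {n : ℕ} (hL : ∀ i < n, mat (elOf (tlMat L i)) = dec (tlMat L i))
    {w : List ℕ} (hw : ∀ x ∈ w, x < n) :
    mat (PData.ev (fun i => elOf (tlMat L i)) w) = dec (evMat L w) := by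
  induction w with
  | nil => rw [PData.ev_nil, map_one]; exact dec_one.symm
  | cons a w ih =>
    obtain ⟨ha, hw'⟩ := List.forall_mem_cons.1 hw
    rw [PData.ev_cons, map_mul, hL a ha, ih hw', evMat_cons, dec_mul9]

theorem incChk_spec (L : List ℕ) : ∀ (W : List (List ℕ)) (b : ℕ), incChk L W b = true →
    (∀ w ∈ W, b < evMat L w ∧ evMat L w < 2 ^ 162) ∧ W.Pairwise fun u w => evMat L u < evMat L w
  | [], _, _ => ⟨by simp, List.Pairwise.nil⟩
  | w :: ws, b, h => by
    simp only [incChk, Presented.force_eq, Bool.and_eq_true, Nat.blt_eq] at h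
    obtain ⟨⟨h1, h1'⟩, h2⟩ := h
    obtain ⟨i1, i2⟩ := incChk_spec L ws _ h2
    exact ⟨List.forall_mem_cons.2 ⟨⟨h1, h1'⟩, fun u hu => ⟨h1.trans (i1 u hu).1, (i1 u hu).2⟩⟩,
      List.pairwise_cons.2 ⟨fun u hu => (i1 u hu).1, i2⟩⟩

theorem local_of_chk {T : PData} {L : List ℕ} {C : List (ℕ × ℕ)} {R : List Rule} {E : List Lab}
    {S : List (List (ℕ × ℕ))} {W : List (List ℕ)} (hchk : tailsChk T L C R E S W = true)
    (hp : T.p.Prime) {m : ℕ} (hcard : 150698880 = T.p ^ T.n * m) (hm : ¬ T.p ∣ m)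
    {Γ : Type*} [Group Γ] [Finite Γ] (σ : Γ →* G9) (hσ : Function.Surjective σ)
    (hz : σ.ker ≤ Subgroup.center Γ) (hexp : ∀ z ∈ σ.ker, z ^ T.p = 1) :
    ∃ H : Subgroup Γ, ¬ T.p ∣ H.index ∧ ⁅H, H⁆ ⊓ σ.ker = ⊥ := by
  have := Fact.mk hp
  simp only [tailsChk, Bool.and_eq_true, decide_eq_true_eq] at hchk
  obtain ⟨⟨⟨⟨⟨⟨hco, hrel⟩, hrules⟩, hder⟩, hlen⟩, hbelow⟩, hinc⟩ := hchk
  simp only [relChk, Bool.and_eq_true, List.all_eq_true, Bool.or_eq_true, List.mem_range, Nat.beq_eq,
    List.isEmpty_iff, PData.below, decide_eq_true_eq] at hrel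
  obtain ⟨⟨hok, hR⟩, himg⟩ := hrel
  simp only [rulesChk, Bool.and_eq_true, List.all_eq_true, List.mem_range, decide_eq_true_eq] at hrules
  obtain ⟨hRlen, hRget⟩ := hrules
  simp only [derChk, List.all_eq_true, List.mem_range] at hder
  simp only [coordChk, Bool.and_eq_true, List.all_eq_true, List.mem_range, Nat.blt_eq, Nat.beq_eq] at hco
  simp only [List.all_eq_true, PData.below, decide_eq_true_eq] at hbelow
  have hmat : ∀ i < T.n + T.nmaps, mat (elOf (tlMat L i)) = dec (tlMat L i) := fun i hi => by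
    obtain ⟨⟨h1, h2⟩, h3⟩ := hco i hi
    exact mat_elOf (by rw [← h3, dec_mul9]; exact (inG_tr h1).mul (inG_st h2))
  have hmatn : ∀ i < T.n, mat (elOf (tlMat L i)) = dec (tlMat L i) := fun i hi => hmat i (by omega)
  set x : ℕ → G9 := fun i => elOf (tlMat L i)
  set g : ℕ → G9 := fun l => elOf (tlMat L (T.n + l))
  obtain ⟨hpw, hcj⟩ := PData.ok_spec hok
  have hvar : ∀ r, T.isRule r = true → R.getD (T.var r) (.pw T.n) = r := by
    intro r hr
    cases r with
    | pw k => exact (hRget k (by simpa [PData.isRule] using hr)).1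
    | cj j k =>
      simp only [PData.isRule, Bool.and_eq_true, decide_eq_true_eq] at hr
      exact (hRget k hr.2).2 j hr.1
  have hidx : ∀ r, T.isRule r = true → T.var r < R.length := by
    intro r hr
    by_contra hlt
    have h := hvar r hr
    rw [List.getD_eq_default _ _ (by omega)] at h
    subst h
    simp [PData.isRule] at hr
  have hmem : ∀ r, T.isRule r = true → r ∈ R := fun r hr => by
    rw [← hvar r hr, List.getD_eq_getElem _ _ (hidx r hr)]
    exact List.getElem_mem _
  have hlhs : ∀ r, T.isRule r = true → (∀ y ∈ T.lhs r, y < T.n) ∧ ∀ y ∈ T.rhs r, y < T.n := by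
    intro r hr
    cases r with
    | pw k =>
      simp only [PData.isRule, decide_eq_true_eq] at hr
      exact ⟨fun y hy => (List.eq_of_mem_replicate hy) ▸ hr, fun y hy => (hpw k hr y hy).2⟩
    | cj j k =>
      simp only [PData.isRule, Bool.and_eq_true, decide_eq_true_eq] at hr
      refine ⟨fun y hy => ?_, fun y hy => ?_⟩
      · simp only [PData.lhs, List.mem_cons, List.not_mem_nil, or_false] at hy
        rcases hy with rfl | rfl <;> omega
      · rcases List.mem_cons.1 hy with rfl | hy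
        · omega
        · exact (hcj k hr.2 j hr.1 y hy).2
  have hx : T.Holds x := fun r hr => mat_injective (by
    rw [mat_ev hmatn (hlhs r hr).1, mat_ev hmatn (hlhs r hr).2, hR r (hmem r hr)])
  have hg : ∀ l < T.nmaps, ∀ k < T.n, T.img l k ≠ [] →
      g l * x k * (g l)⁻¹ = PData.ev x (T.img l k) := by
    intro l hl k hk hne
    obtain ⟨hb, he⟩ := (himg l hl k hk).resolve_left hne
    rw [mul_inv_eq_iff_eq_mul]
    refine mat_injective ?_
    rw [map_mul, map_mul, mat_ev hmatn hb, hmat _ (by omega), hmatn k hk, ← dec_mul9, he, dec_mul9]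
  have hge : T.p ^ T.n ≤ Nat.card (T.gsub x 0) := by
    classical
    obtain ⟨hb1, hb2⟩ := incChk_spec L W 0 hinc
    let f : Fin W.length → ↥(T.gsub x 0) := fun i =>
      ⟨PData.ev x W[i.val], PData.ev_mem fun y hy => ⟨Nat.zero_le y, hbelow _ (List.getElem_mem _) y hy⟩⟩
    have hf : Function.Injective f := by
      intro i j hij
      have h := congrArg (fun z : ↥(T.gsub x 0) => mat z.1) hij
      simp only [f] at h
      rw [mat_ev hmatn (hbelow _ (List.getElem_mem _)), mat_ev hmatn (hbelow _ (List.getElem_mem _))] at h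
      have h' := dec_inj (hb1 _ (List.getElem_mem _)).2 (hb1 _ (List.getElem_mem _)).2 h
      by_contra hne
      rcases lt_or_gt_of_ne (fun e => hne (Fin.ext e)) with hlt | hlt
      · exact (List.pairwise_iff_getElem.1 hb2 i j i.2 j.2 hlt).ne h'
      · exact (List.pairwise_iff_getElem.1 hb2 j i j.2 i.2 hlt).ne h'.symm
    have := Nat.card_le_card_of_injective f hf
    rwa [Nat.card_fin, hlen] at this
  refine ⟨(T.gsub x 0).comap σ, ?_, local_of_tails T σ hσ hz hp.pos hexp x g hok hx hg
    (fun i => R.getD i (.pw T.n)) hvar E (fun r => S.getD (T.var r) [])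
    (fun r hr => by have := hder (T.var r) (hidx r hr); rwa [hvar r hr] at this) hge⟩
  rw [Subgroup.index_comap_of_surjective _ hσ]
  have hle := PData.card_le hok hx hp.pos
  have h := Subgroup.card_mul_index (T.gsub x 0)
  rw [le_antisymm hle hge, card_G9, hcard] at h
  rw [Nat.eq_of_mul_eq_mul_left (pow_pos hp.pos _) h]
  exact hm

/-- A stem extension of the triple cover with kernel of prime exponent is injective. -/
theorem stem_ker_eq_bot {Γ : Type*} [Group Γ] [Finite Γ] (σ : Γ →* G9) (hs : Cfsg.IsStemExtension σ)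
    {p : ℕ} (hp : p.Prime) (hexp : ∀ z ∈ σ.ker, z ^ p = 1) : σ.ker = ⊥ := by
  have := Fact.mk hp
  by_cases h2 : p = 2
  · subst h2
    obtain ⟨H, hidx, hH⟩ := local_of_chk tlTwo_chk Nat.prime_two (m := 1177335)
      (show 150698880 = 2 ^ 7 * 1177335 by norm_num) (show ¬ 2 ∣ 1177335 by norm_num) σ hs.1 hs.2.1 hexp
    exact Schur.ker_eq_bot_of_local σ hs.2.1 hs.2.2 hp hexp H hidx hH
  by_cases h3 : p = 3
  · subst h3
    obtain ⟨H, hidx, hH⟩ := local_of_chk tlThree_chk Nat.prime_three (m := 206720)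
      (show 150698880 = 3 ^ 6 * 206720 by norm_num) (show ¬ 3 ∣ 206720 by norm_num) σ hs.1 hs.2.1 hexp
    exact Schur.ker_eq_bot_of_local σ hs.2.1 hs.2.2 hp hexp H hidx hH
  obtain ⟨P, hP⟩ := Schur.local_of_not_sq_dvd σ hs.1 hs.2.1 hp (by
    rw [card_G9]
    intro hd
    have hd1 : p ∣ 2 ^ 7 * (3 ^ 6 * (5 * (17 * 19))) := by
      norm_num
      exact (dvd_pow_self p two_ne_zero).trans hd
    rcases hp.dvd_mul.1 hd1 with h | h
    · exact h2 ((Nat.prime_dvd_prime_iff_eq hp Nat.prime_two).1 (hp.dvd_of_dvd_pow h))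
    rcases hp.dvd_mul.1 h with h | h
    · exact h3 ((Nat.prime_dvd_prime_iff_eq hp Nat.prime_three).1 (hp.dvd_of_dvd_pow h))
    rcases hp.dvd_mul.1 h with h | h
    · have := (Nat.prime_dvd_prime_iff_eq hp (by norm_num : Nat.Prime 5)).1 h
      subst this
      norm_num at hd
    rcases hp.dvd_mul.1 h with h | h
    · have := (Nat.prime_dvd_prime_iff_eq hp (by norm_num : Nat.Prime 17)).1 h
      subst this
      norm_num at hd
    · have := (Nat.prime_dvd_prime_iff_eq hp (by norm_num : Nat.Prime 19)).1 h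
      subst this
      norm_num at hd)
  exact Schur.ker_eq_bot_of_local σ hs.2.1 hs.2.2 hp hexp P P.not_dvd_index hP

universe u

/-- The Schur multiplier of J₃ has order 3. -/
theorem multiplier_j3 {F : Type u} [Field F] [Fintype F] (hF : Fintype.card F = 4) (ω : F)
    (hω : ω ^ 2 + ω + 1 = 0) : Cfsg.HasCyclicSchurMultiplier (Spor.J3 F ω) 3 := by
  have hq := eqF_w4 hF hω
  rw [← hq]
  set q := eqF hF hω
  let e := groupEq q
  have : Finite (Spor.threeJ3 F (q w4)) := inferInstance
  have hperf : _root_.commutator (Spor.threeJ3 F (q w4)) = ⊤ := by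
    have h : (commutator G9).map e.toMonoidHom = ⊤ := by
      rw [isCommutator_eq_top, Subgroup.map_top_of_surjective _ e.surjective]
    rwa [commutator_def, Subgroup.map_commutator, Subgroup.map_top_of_surjective _ e.surjective,
      ← commutator_def] at h
  have h1 : Cfsg.HasCyclicSchurMultiplier (Spor.threeJ3 F (q w4)) 1 :=
    Schur.hasCyclicSchurMultiplier_one_of_exponent fun p hp Γ _ _ σ hs hexp => by
      have hk : (e.symm.toMonoidHom.comp σ).ker = σ.ker :=
        MonoidHom.ker_comp_of_injective σ e.symm.toMonoidHom e.symm.injective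
      have := stem_ker_eq_bot (e.symm.toMonoidHom.comp σ)
        ⟨e.symm.surjective.comp hs.1, hk ▸ hs.2.1, hk ▸ hs.2.2⟩ hp (hk ▸ hexp)
      rwa [hk] at this
  have hc : Nat.card (Subgroup.center (Spor.threeJ3 F (q w4))) = 3 := (j3_facts q).1
  have : IsCyclic (Subgroup.center (Spor.threeJ3 F (q w4))) := by
    have : Fact (Nat.Prime 3) := ⟨Nat.prime_three⟩
    exact isCyclic_of_prime_card hc
  exact Schur.hasSchurMultiplier_quotient hperf h1 (Subgroup.center _) le_rfl
    ((zmodCyclicMulEquiv ‹_›).symm.trans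
      (AddEquiv.toMultiplicative (ZMod.ringEquivCongr hc).toAddEquiv))

end Cfsg.Agent.J3
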