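import Cfsg.Agent.Lib.J3.Transfer
import Cfsg.Agent.Lib.J3.IsoCheck
import Cfsg.Agent.Lib.J3.IsoStep0
import Cfsg.Agent.Lib.J3.IsoStep1
import Cfsg.Agent.Lib.J3.IsoStep2

/-!
# The orbits on lines
-/

set_option autoImplicit false

open Matrix

namespace Cfsg.Agent.J3

open Cfsg.Agent.G2Four (K4)
open Cfsg.Agent.Presented (checkBlock_join checkBlock_ge checkBelow_of_block checkBelow_spec)

attribute [local irreducible] trN stN genN stGen nvN vecN infoScal infoLead
  Cfsg.Agent.Presented.NTree.get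

/-- The first column. -/
def col0 (M : M9) : Fin 9 → K4 := fun r => M r 0

theorem col0_mul (A M : M9) : col0 (A * M) = A *ᵥ col0 M := rfl

theorem E0_apply (r k : Fin 9) : dec e0N r k = (if r = 0 ∧ k = 0 then 1 else 0 : K4) :=
  (show ∀ p : Fin 9 × Fin 9, dec e0N p.1 p.2 = (if p.1 = 0 ∧ p.2 = 0 then 1 else 0 : K4) by
    decide +kernel) (r, k)

theorem col0_E0 : col0 E0 = Pi.single 0 1 := by
  funext r
  rw [col0, E0, E0_apply]
  by_cases h : r = 0 <;> simp [h, Pi.single_apply]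

theorem pvec_ext {i j : ℕ} (hi : i < 23256) (hj : j < 23256) {c : K4}
    (h : col0 (pvec i) = c • col0 (pvec j)) : pvec i = c • pvec j := by
  have hz : ∀ {t : ℕ}, t < 23256 → ∀ r k : Fin 9, k ≠ 0 → pvec t r k = 0 := by
    intro t ht r k hk
    rw [pvec_eq ht, Matrix.smul_apply, Matrix.mul_apply,
      Finset.sum_eq_zero (fun s _ => by rw [E0, E0_apply, if_neg (fun e => hk e.2), mul_zero]),
      smul_zero]
  ext r k
  by_cases hk : k = 0
  · subst hk; exact congrFun h r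
  · rw [Matrix.smul_apply, hz hi r k hk, hz hj r k hk, smul_zero]

theorem isoStep_all : Presented.checkBelow isoStepChk 16 43605 = true :=
  checkBelow_of_block (by decide +kernel)
    (checkBlock_join 15
      (checkBlock_join 14 isoStep_block0 isoStep_block1)
      (checkBlock_join 14 isoStep_block2 (checkBlock_ge 14 _ (by norm_num))))

/-- The vector with a given code. -/
def vK (c : ℕ) : Fin 9 → K4 := fun i => toK (Nat.testBit c i.val) (Nat.testBit c (9 + i.val))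

theorem smallTab {b : ℕ} (hb : b < 512) :
    spreadTab.get 81 b < 2 ^ 81 ∧
    (∀ i < 9, Nat.testBit (spreadTab.get 81 b) (9 * i) = Nat.testBit b i) ∧
    parityTab.get 1 b =
      (Nat.testBit b 0 ^^ (Nat.testBit b 1 ^^ (Nat.testBit b 2 ^^ (Nat.testBit b 3 ^^ (Nat.testBit b 4 ^^
        (Nat.testBit b 5 ^^ (Nat.testBit b 6 ^^ (Nat.testBit b 7 ^^ Nat.testBit b 8)))))))).toNat ∧
    (b = 0 ∨ (leadTab.get 4 b < 9 ∧ Nat.testBit b (leadTab.get 4 b) = true)) := by
  have h := checkBelow_spec smallTabChk_all b hb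
  simp only [smallTabChk, Presented.force_eq, Bool.and_eq_true, Bool.or_eq_true, Nat.blt_eq, Nat.beq_eq,
    List.all_eq_true, List.mem_range, beq_iff_eq] at h
  obtain ⟨⟨⟨a, b'⟩, c⟩, d⟩ := h
  exact ⟨a, b', c, d⟩

theorem col0_vecN {c : ℕ} (hc : c < 262144) : col0 (dec (vecN c)) = vK c := by
  obtain ⟨a1, a2, -⟩ := smallTab (show c % 512 < 512 by omega)
  obtain ⟨-, b2, -⟩ := smallTab (show c / 512 < 512 by omega)
  funext i
  have hi := i.isLt
  have e1 : Nat.testBit (vecN c) (9 * i.val) = Nat.testBit c i.val := by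
    rw [vecN, Nat.testBit_or, Nat.testBit_shiftLeft, decide_eq_false (by omega), Bool.false_and,
      Bool.or_false, a2 _ hi, show (512 : ℕ) = 2 ^ 9 from rfl, Nat.testBit_mod_two_pow,
      decide_eq_true hi, Bool.true_and]
  have e2 : Nat.testBit (vecN c) (81 + 9 * i.val) = Nat.testBit c (9 + i.val) := by
    rw [vecN, Nat.testBit_or, Nat.testBit_shiftLeft, decide_eq_true (by omega), Bool.true_and,
      Nat.testBit_lt_two_pow (a1.trans_le (Nat.pow_le_pow_right (by norm_num) (by omega))),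
      Bool.false_or, Nat.add_sub_cancel_left, b2 _ hi, show (512 : ℕ) = 2 ^ 9 from rfl,
      Nat.testBit_div_two_pow, Nat.add_comm]
  simp only [col0, dec, Matrix.of_apply, Fin.val_zero, Nat.add_zero, e1, e2, vK]

theorem exists_code (w : Fin 9 → K4) : ∃ c < 262144, vK c = w := by
  have hsurj : ∀ x : K4, ∃ a b : Bool, toK a b = x := by decide +kernel
  choose a b hab using fun i => hsurj (w i)
  let f : Fin (9 + 9) → Bool := Fin.append a b
  refine ⟨Nat.ofBits f, Nat.ofBits_lt_two_pow f, funext fun i => ?_⟩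
  have h1 : Nat.testBit (Nat.ofBits f) i.val = a i := by
    rw [Nat.testBit_ofBits_lt f _ (by omega)]
    exact Fin.append_left a b i
  have h2 : Nat.testBit (Nat.ofBits f) (9 + i.val) = b i := by
    rw [Nat.testBit_ofBits_lt f _ (by omega)]
    exact Fin.append_right a b i
  rw [vK, h1, h2, hab]

theorem suppN_bit {c : ℕ} {i : ℕ} (hi : i < 9) :
    Nat.testBit (suppN c) i = (Nat.testBit c i || Nat.testBit c (9 + i)) := by
  rw [suppN, Nat.testBit_or, show (512 : ℕ) = 2 ^ 9 from rfl, Nat.testBit_mod_two_pow,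
    Nat.testBit_div_two_pow, decide_eq_true hi, Bool.true_and, Nat.add_comm i]

theorem suppN_lt {c : ℕ} (hc : c < 262144) : suppN c < 512 :=
  Nat.or_lt_two_pow (n := 9) (by omega) (by omega)

theorem parity_sum {c : ℕ} : (∑ i, vK c i ^ 3) =
    toK (Nat.testBit (suppN c) 0 ^^ (Nat.testBit (suppN c) 1 ^^ (Nat.testBit (suppN c) 2 ^^
      (Nat.testBit (suppN c) 3 ^^ (Nat.testBit (suppN c) 4 ^^ (Nat.testBit (suppN c) 5 ^^
      (Nat.testBit (suppN c) 6 ^^ (Nat.testBit (suppN c) 7 ^^ Nat.testBit (suppN c) 8)))))))) false := by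
  have h3 : ∀ a b : Bool, toK a b ^ 3 = toK (a || b) false := by decide +kernel
  have he : ∀ i : Fin 9, vK c i ^ 3 = toK (Nat.testBit (suppN c) i.val) false := fun i => by
    rw [suppN_bit i.isLt]; exact h3 _ _
  simp only [he, Fin.sum_univ_succ, Finset.univ_eq_empty, Finset.sum_empty, Fin.val_zero, Fin.val_succ,
    add_zero, zero_add, toK_add, Bool.bne_false]

theorem isoStep {i : ℕ} (hi : i < 43605) (h0 : i ≠ 0) :
    isoPar.get 20 i % 65536 < i ∧ ∃ a : K4, a ≠ 0 ∧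
      dec (genN (isoPar.get 20 i / 65536 % 2)) * dec (vecN (isoCode.get 18 (isoPar.get 20 i % 65536))) =
        a • dec (vecN (isoCode.get 18 i)) := by
  have h := checkBelow_spec isoStep_all i hi
  simp only [isoStepChk, Presented.force_eq, Bool.and_eq_true, Bool.or_eq_true, Nat.blt_eq, Nat.beq_eq,
    h0, false_or] at h
  obtain ⟨⟨⟨h1, h2⟩, h3⟩, h4⟩ := h
  exact ⟨h1, _, scK_ne_zero h2 h3, by rw [← dec_mul9, h4, dec_scMul h2 h3]⟩

theorem iso_reach : ∀ {i : ℕ}, i < 43605 → ∃ g : G9, ∃ a : K4, a ≠ 0 ∧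
    mat g *ᵥ col0 (dec (vecN (isoCode.get 18 0))) = a • col0 (dec (vecN (isoCode.get 18 i))) := by
  intro i
  induction i using Nat.strong_induction_on with
  | _ i ih =>
    intro hi
    by_cases h0 : i = 0
    · subst h0; exact ⟨1, 1, one_ne_zero, by rw [map_one, Matrix.one_mulVec, one_smul]⟩
    obtain ⟨hlt, a, ha, he⟩ := isoStep hi h0
    obtain ⟨g, b, hb, hg⟩ := ih _ hlt (by omega)
    obtain ⟨k, hk⟩ := exists_mat (inG_gen (isoPar.get 20 i / 65536 % 2))
    refine ⟨k * g, b * a, mul_ne_zero hb ha, ?_⟩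
    rw [map_mul, ← Matrix.mulVec_mulVec, hg, Matrix.mulVec_smul, hk, ← col0_mul, he, ← smul_smul]
    rfl

theorem iso_line {w : Fin 9 → K4} (hw : w ≠ 0) (hs : ∑ i, w i ^ 3 = 0) :
    ∃ g : G9, ∃ a : K4, a ≠ 0 ∧ mat g *ᵥ col0 (dec (vecN (isoCode.get 18 0))) = a • w := by
  obtain ⟨c, hc, hcw⟩ := exists_code w
  set n := suppN c with hn
  have hzero : ∀ a b : Bool, toK a b = 0 ↔ (a || b) = false := by decide +kernel
  have hn0 : n ≠ 0 := fun e => hw (by
    funext i
    rw [← hcw, vK, Pi.zero_apply, hzero, ← suppN_bit i.isLt, ← hn, e, Nat.zero_testBit])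
  obtain ⟨hp9, hpb⟩ := (smallTab (suppN_lt hc)).2.2.2.resolve_left hn0
  set p := leadTab.get 4 n with hp
  have hwp : w ⟨p, hp9⟩ ≠ 0 := fun e => by
    rw [← hcw, vK, hzero, ← suppN_bit hp9, hpb] at e
    exact Bool.noConfusion e
  -- the normalised vector
  set u := (w ⟨p, hp9⟩)⁻¹ • w with hu
  obtain ⟨d, hd, hdu⟩ := exists_code u
  have hsupp : suppN d = n := by
    refine Nat.eq_of_testBit_eq fun i => ?_
    by_cases hi : i < 9
    · have e1 := hzero (Nat.testBit d i) (Nat.testBit d (9 + i))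
      have e2 := hzero (Nat.testBit c i) (Nat.testBit c (9 + i))
      rw [← suppN_bit hi] at e1 e2
      rw [show toK (Nat.testBit d i) (Nat.testBit d (9 + i)) = vK d ⟨i, hi⟩ from rfl, hdu, hu,
        Pi.smul_apply, smul_eq_mul, mul_eq_zero, or_iff_right (inv_ne_zero hwp)] at e1
      rw [show toK (Nat.testBit c i) (Nat.testBit c (9 + i)) = vK c ⟨i, hi⟩ from rfl, hcw] at e2
      rw [hn, Bool.eq_iff_iff, ← not_iff_not, Bool.not_eq_true, Bool.not_eq_true]
      exact e1.symm.trans e2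
    · rw [Nat.testBit_lt_two_pow ((suppN_lt hd).trans_le
          (Nat.pow_le_pow_right (by norm_num : 0 < 2) (show 9 ≤ i by omega))),
        Nat.testBit_lt_two_pow ((suppN_lt hc).trans_le
          (Nat.pow_le_pow_right (by norm_num : 0 < 2) (show 9 ≤ i by omega)))]
  have hup : vK d ⟨p, hp9⟩ = 1 := by
    rw [hdu, hu, Pi.smul_apply, smul_eq_mul, inv_mul_cancel₀ hwp]
  obtain ⟨hlo, hhi⟩ := (show ∀ a b : Bool, toK a b = 1 → a = true ∧ b = false by decide +kernel) _ _ hup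
  have hsum : ∑ i, vK d i ^ 3 = 0 := by
    simp only [hdu, hu, Pi.smul_apply, smul_eq_mul, mul_pow, ← Finset.mul_sum, hs, mul_zero]
  rw [parity_sum, hzero, Bool.or_false] at hsum
  have hpar : parityTab.get 1 n = 0 := by
    rw [(smallTab (suppN_lt hc)).2.2.1, ← hn, ← hsupp, hsum]; rfl
  have h := checkBelow_spec isoPosChk_all d hd
  simp only [isoPosChk, Presented.force_eq, hsupp, hpar, ← hp, Bool.or_eq_true, Bool.and_eq_true,
    Bool.not_eq_true', Bool.and_eq_false_iff, Nat.blt_eq, Nat.beq_eq, hn0, false_or,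
    show Nat.beq 0 1 = false from rfl, Bool.false_eq_true] at h
  have h1 : (d >>> p) % 2 = 1 := by
    rw [Nat.shiftRight_eq_div_pow, ← Nat.toNat_testBit, hlo]; rfl
  have h2 : (d >>> (9 + p)) % 2 = 0 := by
    rw [Nat.shiftRight_eq_div_pow, ← Nat.toNat_testBit, hhi]; rfl
  rw [h1, h2] at h
  obtain ⟨hpos, hcode⟩ := h.resolve_left (by simp)
  obtain ⟨g, a, ha, hg⟩ := iso_reach hpos
  rw [hcode, col0_vecN hd, hdu, hu, smul_smul] at hg
  exact ⟨g, _, mul_ne_zero ha (inv_ne_zero hwp), hg⟩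

theorem iso_transitive {v w : Fin 9 → K4} (hv : v ≠ 0) (hw : w ≠ 0)
    (sv : ∑ i, v i ^ 3 = 0) (sw : ∑ i, w i ^ 3 = 0) :
    ∃ g : G9, ∃ a : K4, a ≠ 0 ∧ mat g *ᵥ v = a • w := by
  obtain ⟨g, a, ha, hg⟩ := iso_line hv sv
  obtain ⟨k, b, hb, hk⟩ := iso_line hw sw
  refine ⟨k * g⁻¹, a⁻¹ * b, mul_ne_zero (inv_ne_zero ha) hb, ?_⟩
  have e : mat g⁻¹ *ᵥ (a • v) = col0 (dec (vecN (isoCode.get 18 0))) := by
    rw [← hg, Matrix.mulVec_mulVec, ← map_mul, inv_mul_cancel, map_one, Matrix.one_mulVec]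
  rw [map_mul, ← Matrix.mulVec_mulVec, show v = a⁻¹ • a • v from (inv_smul_smul₀ ha v).symm,
    Matrix.mulVec_smul, e, Matrix.mulVec_smul, hk, smul_smul]

section

variable {F : Type*} [Field F]

/-- The change of field and index set for vectors. -/
def vmap (q : K4 ≃+* F) (v : Fin 9 → K4) : Spor.F9 → F := fun z => q (v (e9 z))

theorem vmap_mulVec (q : K4 ≃+* F) (M : M9) (v : Fin 9 → K4) :
    psi q M *ᵥ vmap q v = vmap q (M *ᵥ v) := by
  funext w
  simp only [Matrix.mulVec, dotProduct, vmap, map_sum, map_mul]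
  exact e9.sum_comp (fun j => q (M (e9 w) j) * q (v j))

theorem vmap_smul (q : K4 ≃+* F) (a : K4) (v : Fin 9 → K4) :
    vmap q (a • v) = q a • vmap q v := by
  funext z; simp [vmap]

theorem vmap_injective (q : K4 ≃+* F) : Function.Injective (vmap q) := fun v w h => funext fun i => by
  have := congrFun h (e9.symm i)
  simpa [vmap] using this

theorem vmap_single (q : K4 ≃+* F) :
    vmap q (Pi.single 0 1) = (Pi.single (0 : Spor.F9) (1 : F) : Spor.F9 → F) := by
  have h0 : ∀ z : Spor.F9, e9 z = 0 ↔ z = 0 := by decide +kernel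
  funext z
  simp [vmap, Pi.single_apply, apply_ite q, h0]

theorem exists_val (q : K4 ≃+* F) {x : GL Spor.F9 F} (hx : x ∈ Spor.threeJ3 F (q w4)) :
    ∃ g : G9, (x : Matrix Spor.F9 Spor.F9 F) = psi q (mat g) := by
  rw [← map_G9 q] at hx
  obtain ⟨g, hg, rfl⟩ := hx
  exact ⟨⟨g, hg⟩, rfl⟩

theorem line_orbit (q : K4 ≃+* F) :
    {L : Submodule F (Spor.F9 → F) | ∃ g ∈ Spor.threeJ3 F (q w4),
      L = F ∙ ((g : Matrix Spor.F9 Spor.F9 F) *ᵥ (Pi.single (0 : Spor.F9) (1 : F) : Spor.F9 → F))}.ncard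
      = 23256 := by
  let L : Fin 23256 → Submodule F (Spor.F9 → F) := fun i => F ∙ vmap q (col0 (pvec i.val))
  have hne : ∀ i : Fin 23256, vmap q (col0 (pvec i.val)) ≠ 0 := fun i h => by
    have e := congrFun h (e9.symm ⟨infoLead i.val, (line_spec i.isLt).2.2.1⟩)
    simp [vmap, col0, (pvec_lead i.isLt).2] at e
  have hinj : Function.Injective L := fun i j h => by
    obtain ⟨t, ht⟩ := Submodule.span_singleton_eq_span_singleton.1 h
    have e : col0 (pvec j.val) = q.symm (t : F) • col0 (pvec i.val) := vmap_injective q (by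
      rw [vmap_smul, q.apply_symm_apply, ← ht]; rfl)
    exact (Fin.ext (eq_of_line j.isLt i.isLt (by simp [t.ne_zero]) (pvec_ext j.isLt i.isLt e))).symm
  have hcol : ∀ g : G9, psi q (mat g) *ᵥ (Pi.single (0 : Spor.F9) (1 : F) : Spor.F9 → F) =
      vmap q (col0 (mat g * E0)) := fun g => by
    rw [col0_mul, col0_E0, ← vmap_single q, vmap_mulVec]
  have hspan : ∀ (c : K4) (M : M9), c ≠ 0 →
      (F ∙ vmap q (col0 (c • M))) = F ∙ vmap q (col0 M) := fun c M hc => by
    rw [show col0 (c • M) = c • col0 M from rfl, vmap_smul]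
    exact Submodule.span_singleton_smul_eq (isUnit_iff_ne_zero.2 (by simp [hc])) _
  rw [show {L : Submodule F (Spor.F9 → F) | ∃ g ∈ Spor.threeJ3 F (q w4),
      L = F ∙ ((g : Matrix Spor.F9 Spor.F9 F) *ᵥ (Pi.single (0 : Spor.F9) (1 : F) : Spor.F9 → F))} =
      Set.range L from ?_, Set.ncard_range_of_injective hinj, Nat.card_fin]
  ext M
  constructor
  · rintro ⟨x, hx, rfl⟩
    obtain ⟨g, hg⟩ := exists_val q hx
    obtain ⟨j, hj, c, hc, he⟩ := exists_line g
    exact ⟨⟨j, hj⟩, by rw [hg, hcol, he, hspan c _ hc]⟩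
  · rintro ⟨i, rfl⟩
    obtain ⟨g, hg⟩ := exists_mat (inG_tr i.isLt)
    refine ⟨phi q g.1, by rw [← map_G9 q]; exact ⟨g.1, g.2, rfl⟩, ?_⟩
    rw [phi_val, show ((g.1 : GL (Fin 9) K4) : M9) = mat g from rfl, hcol, hg, tr_E0 i.isLt,
      hspan _ _ (inv_ne_zero (scK_ne_zero (line_spec i.isLt).1 (line_spec i.isLt).2.1))]

theorem isotropic_transitive (q : K4 ≃+* F) {v w : Spor.F9 → F} (hv : v ≠ 0) (hw : w ≠ 0)
    (sv : ∑ z, v z ^ 3 = 0) (sw : ∑ z, w z ^ 3 = 0) :
    ∃ g ∈ Spor.threeJ3 F (q w4), ∃ c : F, c ≠ 0 ∧ (g : Matrix Spor.F9 Spor.F9 F) *ᵥ v = c • w := by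
  have key : ∀ u : Spor.F9 → F, u ≠ 0 → ∑ z, u z ^ 3 = 0 →
      ∃ u' : Fin 9 → K4, u' ≠ 0 ∧ ∑ i, u' i ^ 3 = 0 ∧ vmap q u' = u := by
    intro u hu hs
    have he : vmap q (fun i => q.symm (u (e9.symm i))) = u := by funext z; simp [vmap]
    refine ⟨_, fun h => hu (by rw [← he, h]; funext z; simp [vmap]), ?_, he⟩
    simp only [← map_pow, ← map_sum]
    rw [e9.symm.sum_comp (fun z => u z ^ 3), hs, map_zero]
  obtain ⟨v', hv', sv', rfl⟩ := key v hv sv
  obtain ⟨w', hw', sw', rfl⟩ := key w hw sw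
  obtain ⟨g, a, ha, hg⟩ := iso_transitive hv' hw' sv' sw'
  refine ⟨phi q g.1, by rw [← map_G9 q]; exact ⟨g.1, g.2, rfl⟩, q a, by simp [ha], ?_⟩
  rw [phi_val, show ((g.1 : GL (Fin 9) K4) : M9) = mat g from rfl, vmap_mulVec, hg, vmap_smul]

end

end Cfsg.Agent.J3
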