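import Cfsg.Agent.Lib.J3.OutDef

/-!
# Triples of involutions, checked
-/

set_option autoImplicit false

namespace Cfsg.Agent.J3

open Cfsg.Agent.Presented (checkBelow)

theorem comChk_all : checkBelow comChk 8 130 = true := by decide +kernel

theorem solChk_all : checkBelow solChk 11 1664 = true := by decide +kernel

theorem tripOK_eq : tripOK = true := by decide +kernel

end Cfsg.Agent.J3
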