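import Cfsg.Agent.Lib.J3.InvDef
import Cfsg.Agent.Lib.J3.Check
import Cfsg.Agent.Lib.J3.DataOut

/-!
# Triples of involutions to be checked
-/

set_option autoImplicit false

namespace Cfsg.Agent.J3

open Cfsg.Agent.Presented (force)

/-- The product with first involution has order two or three only at listed places. -/
noncomputable def markChk (i : ℕ) : Bool :=
  force (clN 0) fun t => force (clN i) fun x => force (markTab.get 16 i) fun m =>
  force (mul9 t x) fun p => force (mul9 x t) fun p' =>
    (Nat.beq i 0 || !(Nat.beq p p') ||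
      (Nat.blt 0 m && Nat.blt (m - 1) 130 && Nat.beq (comList.getD (m - 1) 0) i)) &&
    (Nat.beq i 0 || !(Nat.beq (mul9 p p) p') ||
      (Nat.blt 2048 m && Nat.blt (m - 2049) 832 && Nat.beq (threeList.get 16 (m - 2049)) i))

/-- A commuting involution is conjugate to a representative. -/
noncomputable def comChk (k : ℕ) : Bool :=
  force (comConj.get 32 k) fun c => force (comRep.getD k 0) fun j =>
  force (mul9 (trN (c / 8192)) (stN (c % 8192))) fun g =>
    Nat.blt (c / 8192) 23256 && Nat.blt (c % 8192) 6480 && Nat.blt j 2 &&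
    Nat.beq (mul9 g (clN 0)) (mul9 (clN 0) g) &&
    Nat.beq (mul9 g (clN (repList.getD j 0))) (mul9 (clN (comList.getD k 0)) g) &&
    Nat.blt (comList.getD k 0) 26163 && Nat.blt (repList.getD j 0) 26163

/-- The triples of the profile. -/
noncomputable def solChk (e : ℕ) : Bool :=
  force (e / 832) fun j => force (clN 0) fun t => force (clN (repList.getD j 0)) fun r =>
  force (clN (threeList.get 16 (e % 832))) fun s => force (scN 1) fun one =>
  force (mul9 r s) fun p => force (mul9 p p) fun p2 => force (mul9 p2 p2) fun p4 =>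
  force (mul9 p4 p2) fun p6 =>
    !(Nat.beq (mul9 p6 p6) one) || Nat.beq p6 one || Nat.beq p4 one ||
    (force (mul9 (mul9 t r) s) fun q => force (mul9 q q) fun q2 => force (mul9 q q2) fun q3 =>
     force (mul9 q3 q2) fun q5 =>
      !(Nat.beq (mul9 q5 (mul9 q5 q5)) one) || Nat.beq q5 one || Nat.beq q3 one ||
      (Nat.beq j 0 && solList.any (fun l => Nat.beq l (e % 832))))

/-- The three generating involutions. -/
noncomputable def letter3 (s : ℕ) : ℕ :=
  bif Nat.beq s 0 then clN 0 else bif Nat.beq s 1 then clN tripR else clN tripS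

/-- Facts about the generating triple and the semilinear map. -/
noncomputable def tripOK : Bool :=
  force (clN 0) fun t => force (clN tripR) fun r => force (clN tripS) fun s => force (scN 1) fun one =>
    Nat.blt tripR 26163 && Nat.blt tripS 26163 &&
    Nat.beq (mul9 t r) (mul9 r t) && !(Nat.beq t r) &&
    Nat.beq (powN (mul9 t s) 3) one && !(Nat.beq t s) &&
    Nat.beq (powN (mul9 r s) 12) one && !(Nat.beq (powN (mul9 r s) 6) one) &&
    !(Nat.beq (powN (mul9 r s) 4) one) &&
    Nat.beq (powN (mul9 (mul9 t r) s) 15) one && !(Nat.beq (powN (mul9 (mul9 t r) s) 5) one) &&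
    !(Nat.beq (powN (mul9 (mul9 t r) s) 3) one) &&
    Nat.beq (wordVal letter3 wordTauX) (mul9 (scN 2) genX) &&
    Nat.beq (wordVal letter3 wordTauY) (mul9 (scN 3) genY) &&
    solList.length == 32 && repList.length == 2

end Cfsg.Agent.J3
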