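import Cfsg.Agent.Lib.J3.InvolutionsTransfer
import Cfsg.Agent.Lib.J3.OutCheck
import Cfsg.Agent.Lib.J3.OutMark0
import Cfsg.Agent.Lib.J3.OutMark1
import Cfsg.Prelude.Def_KGroupFacts

/-!
# The outer automorphisms of the third Janko group

Squaring all entries and permuting coordinates by a semilinear map of the index field maps the group to
itself and is not inner, as it changes a trace. A triple of involutions of a fixed profile generates the
group, and there are only `2 |G|` such triples.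
-/

set_option autoImplicit false

namespace Cfsg.Agent.J3

open Cfsg.Agent.G2Four (K4)
open Cfsg.Agent.Presented (checkBelow checkBelow_spec checkBelow_of_block checkBlock_join)

attribute [local irreducible] trN stN clN genN mul9 dec tripR tripS Cfsg.Agent.Presented.NTree.get

theorem code_eq {g : G9} {A B : ℕ} (hA : A < 2 ^ 162) (hB : B < 2 ^ 162) (ha : mat g = dec A)
    (hb : mat g = dec B) : A = B :=
  dec_inj hA hB (ha.symm.trans hb)

/-- The involution with a given number. -/
noncomputable def invG (i : Fin 26163) : G9 :=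
  (cl_conj i.isLt).choose * invT * ((cl_conj i.isLt).choose)⁻¹

theorem mat_invG (i : Fin 26163) : mat (invG i) = dec (clN i.val) := (cl_conj i.isLt).choose_spec

theorem invG_sq (i : Fin 26163) : invG i * invG i = 1 := by
  rw [invG, show ∀ c : G9, c * invT * c⁻¹ * (c * invT * c⁻¹) = c * (invT * invT) * c⁻¹ from
    fun c => by group, invT_sq, mul_one, mul_inv_cancel]

theorem invG_zero : invG ⟨0, by norm_num⟩ = invT := mat_injective (by rw [mat_invG, mat_invT])

/-- The involution of the simple group with a given number. -/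
noncomputable def invQ (i : Fin 26163) : Q3 := QuotientGroup.mk' _ (invG i)

theorem exists_invQ {x : Q3} (hx : orderOf x = 2) : ∃ i, invQ i = x := by
  obtain ⟨c, hc⟩ := isConj_iff.1 (isConj_tau hx)
  obtain ⟨g, rfl⟩ := QuotientGroup.mk'_surjective (Subgroup.center G9) c
  obtain ⟨j, hj, he⟩ := conj_mem_cl g
  refine ⟨⟨j, hj⟩, ?_⟩
  rw [← hc, tau, ← map_inv, ← map_mul, ← map_mul, invQ]
  congr 1
  exact mat_injective ((mat_invG _).trans he.symm)

/-- A power of a product of two involutions which is scalar is trivial. -/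
theorem pow_lift {x y : G9} (hx : x * x = 1) (hy : y * y = 1) {n : ℕ}
    (h : (QuotientGroup.mk' (Subgroup.center G9) (x * y)) ^ n = 1) : (x * y) ^ n = 1 := by
  rw [← map_pow] at h
  have hz : (x * y) ^ n ∈ Subgroup.center G9 := (QuotientGroup.eq_one_iff _).1 h
  have hx' : x⁻¹ = x := inv_eq_of_mul_eq_one_right hx
  have hy' : y⁻¹ = y := inv_eq_of_mul_eq_one_right hy
  have hinv : x * (x * y) * x⁻¹ = (x * y)⁻¹ := by
    rw [← mul_assoc x x y, hx, one_mul, mul_inv_rev, hy', hx']
  have e : (x * y) ^ n = ((x * y) ^ n)⁻¹ := by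
    calc (x * y) ^ n = (x * y) ^ n * (x * x⁻¹) := by rw [mul_inv_cancel, mul_one]
      _ = x * (x * y) ^ n * x⁻¹ := by rw [← mul_assoc, Subgroup.mem_center_iff.1 hz x]
      _ = ((x * y) ^ n)⁻¹ := by rw [← conj_pow, hinv, inv_pow]
  have h2 : (x * y) ^ n * (x * y) ^ n = 1 := by nth_rw 2 [e]; exact mul_inv_cancel _
  have h3 : ((x * y) ^ n) ^ 3 = 1 := by
    have e' := pow_card_eq_one' (x := (⟨_, hz⟩ : Subgroup.center G9))
    rw [card_center] at e'
    exact congrArg Subtype.val e'
  rwa [pow_succ, pow_two, h2, one_mul] at h3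

theorem pow_ne_lift {x : G9} {n m : ℕ} (hn : orderOf (QuotientGroup.mk' (Subgroup.center G9) x) = n)
    (hm : 0 < m) (hlt : m < n) : x ^ m ≠ 1 := fun e => by
  have h := orderOf_le_of_pow_eq_one hm
    (show (QuotientGroup.mk' (Subgroup.center G9) x) ^ m = 1 by rw [← map_pow, e, map_one])
  omega

theorem commute_of_order_two {G : Type*} [Group G] {x r : G} (hx : orderOf x = 2) (hr : orderOf r = 2)
    (h : orderOf (x * r) = 2) : x * r = r * x := by
  have ex : x⁻¹ = x := inv_eq_of_mul_eq_one_right (by rw [← pow_two, ← hx]; exact pow_orderOf_eq_one x)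
  have er : r⁻¹ = r := inv_eq_of_mul_eq_one_right (by rw [← pow_two, ← hr]; exact pow_orderOf_eq_one r)
  have e : (x * r)⁻¹ = x * r :=
    inv_eq_of_mul_eq_one_right (by rw [← pow_two, ← h]; exact pow_orderOf_eq_one _)
  rw [mul_inv_rev, ex, er] at e
  exact e.symm

/-- The profile of the triples. -/
def Profile {G : Type*} [Group G] (x r s : G) : Prop :=
  orderOf x = 2 ∧ orderOf r = 2 ∧ orderOf s = 2 ∧ orderOf (x * r) = 2 ∧ orderOf (x * s) = 3 ∧
    orderOf (r * s) = 12 ∧ orderOf (x * r * s) = 15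

theorem Profile.map {G H : Type*} [Group G] [Group H] {x r s : G} (h : Profile x r s) (e : G ≃* H) :
    Profile (e x) (e r) (e s) := by
  obtain ⟨a, b, c, d, f, g, k⟩ := h
  refine ⟨?_, ?_, ?_, ?_, ?_, ?_, ?_⟩ <;> simp only [← map_mul, e.orderOf_eq] <;> assumption

/-! ### The bound -/

theorem mark_all : checkBelow markChk 15 26163 = true :=
  checkBelow_of_block (by decide +kernel) (checkBlock_join 14 mark_block0 mark_block1)

theorem mark_facts {i : Fin 26163} :
    (invT * invG i = invG i * invT → i.val ≠ 0 → ∃ k < 130, comList.getD k 0 = i.val) ∧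
    ((invT * invG i) ^ 3 = 1 → i.val ≠ 0 → ∃ l < 832, threeList.get 16 l = i.val) := by
  have h := checkBelow_spec mark_all i.val i.isLt
  simp only [markChk, Presented.force_eq, Bool.and_eq_true, Bool.or_eq_true, Bool.not_eq_true',
    Nat.blt_eq, Nat.beq_eq] at h
  obtain ⟨h1, h2⟩ := h
  have e1 : mat (invT * invG i) = dec (mul9 (clN 0) (clN i.val)) := by
    rw [map_mul, mat_invT, mat_invG, dec_mul9]
  have e2 : mat (invG i * invT) = dec (mul9 (clN i.val) (clN 0)) := by
    rw [map_mul, mat_invT, mat_invG, dec_mul9]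
  constructor
  · intro hc h0
    rcases h1 with (h | h) | ⟨⟨-, h⟩, h'⟩
    · exact absurd h h0
    · exact absurd (code_eq (mul9_lt _ _) (mul9_lt _ _) e1 (hc ▸ e2)) (Nat.ne_of_beq_eq_false h)
    · exact ⟨_, h, h'⟩
  · intro hc h0
    rcases h2 with (h | h) | ⟨⟨-, h⟩, h'⟩
    · exact absurd h h0
    · refine absurd (code_eq (g := invG i * invT) (mul9_lt _ _) (mul9_lt _ _) ?_ e2)
        (Nat.ne_of_beq_eq_false h)
      have e : invG i * invT = (invT * invG i) * (invT * invG i) := by
        have e' : (invT * invG i) * ((invT * invG i) * (invT * invG i)) = 1 := by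
          rw [← pow_two, ← pow_succ']; exact hc
        rw [eq_comm, ← inv_eq_of_mul_eq_one_right e', mul_inv_rev,
          inv_eq_of_mul_eq_one_right invT_sq, inv_eq_of_mul_eq_one_right (invG_sq i)]
      rw [e, map_mul, e1, ← dec_mul9]
    · exact ⟨_, h, h'⟩

theorem com_facts {k : ℕ} (hk : k < 130) :
    comList.getD k 0 < 26163 ∧ comRep.getD k 0 < 2 ∧ repList.getD (comRep.getD k 0) 0 < 26163 ∧
    ∃ g : G9, g * invT = invT * g ∧
      mat g * dec (clN (repList.getD (comRep.getD k 0) 0)) = dec (clN (comList.getD k 0)) * mat g := by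
  have h := checkBelow_spec comChk_all k hk
  simp only [comChk, Presented.force_eq, Bool.and_eq_true, Nat.blt_eq, Nat.beq_eq] at h
  obtain ⟨⟨⟨⟨⟨⟨h1, h2⟩, h3⟩, h4⟩, h5⟩, h6⟩, h7⟩ := h
  obtain ⟨g, hg⟩ := exists_mat ((inG_tr h1).mul (inG_st h2))
  rw [← dec_mul9] at hg
  refine ⟨h6, h3, h7, g, mat_injective ?_, ?_⟩
  · rw [map_mul, map_mul, hg, mat_invT, ← dec_mul9, ← dec_mul9, h4]
  · rw [hg, ← dec_mul9, ← dec_mul9, h5]

/-- The representatives of the commuting involutions. -/
noncomputable def repI (j : ℕ) (hj : repList.getD j 0 < 26163) : Fin 26163 := ⟨repList.getD j 0, hj⟩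

theorem mul_self_of_commute {g : G9} (hc : invT * g = g * invT) (hg : g * g = 1) :
    (invT * g) * (invT * g) = 1 := by
  rw [(show Commute invT g from hc).symm.mul_mul_mul_comm, invT_sq, hg, one_mul]

theorem sol_facts {j l : ℕ} (hj : j < 2) (hl : l < 832) {a b : Fin 26163}
    (ha : a.val = repList.getD j 0) (hb : b.val = threeList.get 16 l) (hc : invT * invG a = invG a * invT)
    (h12 : orderOf (invQ a * invQ b) = 12) (h15 : orderOf (tau * invQ a * invQ b) = 15) :
    j = 0 ∧ l ∈ solList := by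
  have h := checkBelow_spec solChk_all (832 * j + l) (by omega)
  simp only [solChk, Presented.force_eq, show (832 * j + l) / 832 = j by omega,
    show (832 * j + l) % 832 = l by omega, ← ha, ← hb, Bool.and_eq_true, Bool.or_eq_true,
    Bool.not_eq_true', List.any_eq_true, Nat.beq_eq] at h
  set p := invG a * invG b with hp
  set q := invT * invG a * invG b with hq
  have hp' : orderOf (QuotientGroup.mk' (Subgroup.center G9) p) = 12 := by rw [hp, map_mul]; exact h12
  have hq' : orderOf (QuotientGroup.mk' (Subgroup.center G9) q) = 15 := by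
    rw [hq, map_mul, map_mul]; exact h15
  have hta : (invT * invG a) * (invT * invG a) = 1 := mul_self_of_commute hc (invG_sq a)
  have p12 : p ^ 12 = 1 := pow_lift (invG_sq a) (invG_sq b) (by
    rw [← hp, ← hp']; exact pow_orderOf_eq_one _)
  have q15 : q ^ 15 = 1 := pow_lift hta (invG_sq b) (by rw [← hq, ← hq']; exact pow_orderOf_eq_one _)
  have mp : mat p = dec (mul9 (clN a.val) (clN b.val)) := by
    rw [hp, map_mul, mat_invG, mat_invG, dec_mul9]
  have mq : mat q = dec (mul9 (mul9 (clN 0) (clN a.val)) (clN b.val)) := by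
    rw [hq, map_mul, map_mul, mat_invT, mat_invG, mat_invG, dec_mul9, dec_mul9]
  generalize mul9 (clN a.val) (clN b.val) = P at h mp
  generalize mul9 (mul9 (clN 0) (clN a.val)) (clN b.val) = R at h mq
  have sq : ∀ {x y : G9} {A B : ℕ}, mat x = dec A → mat y = dec B → mat (x * y) = dec (mul9 A B) :=
    fun hA hB => by rw [map_mul, hA, hB, dec_mul9]
  have one_iff : ∀ {x : G9} {A B : ℕ}, mat x = dec (mul9 A B) → (x = 1 ↔ mul9 A B = scN 1) :=
    fun {x A B} hA => ⟨fun e => code_eq (mul9_lt _ _) scN_one_lt hA (by rw [e, map_one, dec_one]),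
      fun e => mat_injective (by rw [hA, e, dec_one, map_one])⟩
  have P2 := sq mp mp
  have P4 := sq P2 P2
  have P6 := sq P4 P2
  have P12 := sq P6 P6
  have R2 := sq mq mq
  have R3 := sq mq R2
  have R5 := sq R3 R2
  have R15 := sq R5 (sq R5 R5)
  simp only [← pow_succ', ← pow_two, ← pow_mul, ← pow_add] at P2 P4 P6 P12 R2 R3 R5 R15
  norm_num at P2 P4 P6 P12 R2 R3 R5 R15
  rcases h with ((h | h) | h) | ((h | h) | h) | h
  · exact absurd ((one_iff P12).1 p12) (Nat.ne_of_beq_eq_false h)
  · exact absurd ((one_iff P6).2 h) (pow_ne_lift hp' (by norm_num) (by norm_num))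
  · exact absurd ((one_iff P4).2 h) (pow_ne_lift hp' (by norm_num) (by norm_num))
  · exact absurd ((one_iff R15).1 q15) (Nat.ne_of_beq_eq_false h)
  · exact absurd ((one_iff R5).2 h) (pow_ne_lift hq' (by norm_num) (by norm_num))
  · exact absurd ((one_iff R3).2 h) (pow_ne_lift hq' (by norm_num) (by norm_num))
  · obtain ⟨h0, l', hl', he⟩ := h
    exact ⟨h0, he ▸ hl'⟩

theorem trip_facts : tripR < 26163 ∧ tripS < 26163 ∧
    mul9 (clN 0) (clN tripR) = mul9 (clN tripR) (clN 0) ∧ clN 0 ≠ clN tripR ∧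
    powN (mul9 (clN 0) (clN tripS)) 3 = scN 1 ∧ clN 0 ≠ clN tripS ∧
    powN (mul9 (clN tripR) (clN tripS)) 12 = scN 1 ∧ powN (mul9 (clN tripR) (clN tripS)) 6 ≠ scN 1 ∧
    powN (mul9 (clN tripR) (clN tripS)) 4 ≠ scN 1 ∧
    powN (mul9 (mul9 (clN 0) (clN tripR)) (clN tripS)) 15 = scN 1 ∧
    powN (mul9 (mul9 (clN 0) (clN tripR)) (clN tripS)) 5 ≠ scN 1 ∧
    powN (mul9 (mul9 (clN 0) (clN tripR)) (clN tripS)) 3 ≠ scN 1 ∧
    wordVal letter3 wordTauX = mul9 (scN 2) genX ∧ wordVal letter3 wordTauY = mul9 (scN 3) genY ∧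
    solList.length = 32 ∧ repList.length = 2 := by
  have h := tripOK_eq
  simp only [tripOK, Presented.force_eq, Bool.and_eq_true, Bool.not_eq_true', Nat.blt_eq, Nat.beq_eq,
    beq_iff_eq] at h
  obtain ⟨⟨⟨⟨⟨⟨⟨⟨⟨⟨⟨⟨⟨⟨⟨a1, a2⟩, a3⟩, a4⟩, a5⟩, a6⟩, a7⟩, a8⟩, a9⟩, b1⟩, b2⟩, b3⟩, b4⟩, b5⟩, b6⟩, b7⟩ := h
  exact ⟨a1, a2, a3, Nat.ne_of_beq_eq_false a4, a5, Nat.ne_of_beq_eq_false a6, a7,
    Nat.ne_of_beq_eq_false a8, Nat.ne_of_beq_eq_false a9, b1, Nat.ne_of_beq_eq_false b2,
    Nat.ne_of_beq_eq_false b3, b4, b5, b6, b7⟩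

/-- The indices of commuting involutions in the orbit with solutions. -/
abbrev K0 : Type := {k : Fin 130 // comRep.getD k.val 0 = 0}

theorem card_K0 : Nat.card K0 = 120 := by
  rw [Nat.card_eq_fintype_card]; decide +kernel

theorem solList_lt : ∀ l ∈ solList, l < 832 := by decide +kernel

/-- An element commuting with the involution and moving the representative. -/
noncomputable def comG (k : Fin 130) : G9 := (com_facts k.isLt).2.2.2.choose

/-- A triple of the profile. -/
noncomputable def tripleOf (p : Fin 26163 × K0 × Fin 32) : Q3 × Q3 × Q3 :=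
  let c : Q3 := QuotientGroup.mk' _ ((cl_conj p.1.isLt).choose)
  (c * tau * c⁻¹, c * invQ ⟨comList.getD p.2.1.1.val 0, (com_facts p.2.1.1.isLt).1⟩ * c⁻¹,
    c * (QuotientGroup.mk' _ (comG p.2.1.1) *
      invQ ⟨threeList.get 16 (solList.getD p.2.2.val 0) % 26163, Nat.mod_lt _ (by norm_num)⟩ *
      (QuotientGroup.mk' _ (comG p.2.1.1))⁻¹) * c⁻¹)

theorem invQ_conj (i : Fin 26163) : invQ i =
    QuotientGroup.mk' _ (cl_conj i.isLt).choose * tau *
      (QuotientGroup.mk' (Subgroup.center G9) (cl_conj i.isLt).choose)⁻¹ := by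
  rw [invQ, invG, map_mul, map_mul, map_inv]; rfl

theorem profile_cover {x r s : Q3} (h : Profile x r s) : ∃ p, tripleOf p = (x, r, s) := by
  obtain ⟨i, rfl⟩ := exists_invQ h.1
  set c : Q3 := QuotientGroup.mk' _ (cl_conj i.isLt).choose with hc
  have hx : invQ i = c * tau * c⁻¹ := invQ_conj i
  have h' := h.map (MulAut.conj c⁻¹ : Q3 ≃* Q3)
  simp only [MulAut.conj_apply, inv_inv] at h'
  rw [show c⁻¹ * invQ i * c = tau by rw [hx]; group] at h'
  obtain ⟨-, hr2, hs2, hxr, hxs, hrs, hxrs⟩ := h'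
  obtain ⟨a, ha⟩ := exists_invQ hr2
  rw [← ha] at hr2 hxr hrs hxrs
  have hcomm : invG a * invT = invT * invG a :=
    commute_lift (commute_of_order_two orderOf_tau hr2 hxr).symm
  have ha0 : a.val ≠ 0 := fun e => by
    have e' : invQ a = tau := by rw [invQ, show a = ⟨0, by norm_num⟩ from Fin.ext e, invG_zero]; rfl
    have h2 : tau * tau = 1 := by rw [tau, ← map_mul, invT_sq, map_one]
    rw [e', h2, orderOf_one] at hxr
    norm_num at hxr
  obtain ⟨k, hk, hka⟩ := mark_facts.1 hcomm.symm ha0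
  obtain ⟨-, hj2, hjlt, -⟩ := com_facts hk
  set g : G9 := comG ⟨k, hk⟩ with hg
  obtain ⟨hg1, hg2⟩ : g * invT = invT * g ∧
      mat g * dec (clN (repList.getD (comRep.getD k 0) 0)) = dec (clN (comList.getD k 0)) * mat g :=
    (com_facts (k := k) hk).2.2.2.choose_spec
  set gq : Q3 := QuotientGroup.mk' _ g with hgq
  set R : Fin 26163 := ⟨repList.getD (comRep.getD k 0) 0, hjlt⟩ with hR
  have hgt : gq * tau * gq⁻¹ = tau := by
    rw [hgq, tau, ← map_inv, ← map_mul, ← map_mul, hg1, mul_inv_cancel_right]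
  have hga : invQ a = gq * invQ R * gq⁻¹ := by
    rw [hgq, invQ, invQ, ← map_inv, ← map_mul, ← map_mul]
    congr 1
    refine eq_mul_inv_of_mul_eq (mat_injective ?_)
    rw [map_mul, map_mul, mat_invG, mat_invG, ← hka]
    exact hg2.symm
  obtain ⟨b, hb⟩ := exists_invQ (x := gq⁻¹ * (c⁻¹ * s * c) * gq) (by
    rw [← hs2]
    exact (MulEquiv.orderOf_eq (MulAut.conj gq⁻¹) (c⁻¹ * s * c)).symm.trans (by simp) |>.symm)
  have hb3 : orderOf (tau * invQ b) = 3 := by
    rw [hb, ← hxs, ← MulEquiv.orderOf_eq (MulAut.conj gq)]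
    congr 1
    rw [MulAut.conj_apply]
    conv_rhs => rw [← hgt]
    group
  obtain ⟨l, hl, hlb⟩ := mark_facts.2 (pow_lift invT_sq (invG_sq b) (n := 3) (by
    rw [map_mul, ← hb3]; exact pow_orderOf_eq_one _)) (fun e => by
    have e' : invQ b = tau := by rw [invQ, show b = ⟨0, by norm_num⟩ from Fin.ext e, invG_zero]; rfl
    have h2 : tau * tau = 1 := by rw [tau, ← map_mul, invT_sq, map_one]
    rw [e', h2, orderOf_one] at hb3
    norm_num at hb3)
  have hRcomm : invT * invG R = invG R * invT := by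
    refine (commute_lift ?_).symm
    show invQ R * tau = tau * invQ R
    have e := commute_of_order_two orderOf_tau hr2 hxr
    rw [hga] at e
    have e' := congrArg (fun z => gq⁻¹ * z * gq) e
    calc invQ R * tau = gq⁻¹ * (gq * invQ R * gq⁻¹ * (gq * tau * gq⁻¹)) * gq := by group
      _ = gq⁻¹ * (gq * invQ R * gq⁻¹ * tau) * gq := by rw [hgt]
      _ = gq⁻¹ * (tau * (gq * invQ R * gq⁻¹)) * gq := e'.symm
      _ = gq⁻¹ * ((gq * tau * gq⁻¹) * (gq * invQ R * gq⁻¹)) * gq := by rw [hgt]
      _ = tau * invQ R := by group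
  obtain ⟨hj0, hls⟩ := sol_facts hj2 hl (a := R) (b := b) rfl hlb.symm hRcomm
    (by
      rw [hb, ← hrs, hga, ← MulEquiv.orderOf_eq (MulAut.conj gq)]
      congr 1
      rw [MulAut.conj_apply]
      group)
    (by
      rw [hb, ← hxrs, hga, ← MulEquiv.orderOf_eq (MulAut.conj gq)]
      congr 1
      rw [MulAut.conj_apply]
      conv_rhs => rw [← hgt]
      group)
  obtain ⟨m, hm, hme⟩ := List.getElem_of_mem hls
  refine ⟨(i, ⟨⟨k, hk⟩, hj0⟩, ⟨m, hm⟩), ?_⟩
  simp only [tripleOf]
  rw [← hc, ← hg, ← hgq, ← hx,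
    show (⟨threeList.get 16 (solList.getD m 0) % 26163, Nat.mod_lt _ (by norm_num)⟩ : Fin 26163) = b from
      Fin.ext (by
        show threeList.get 16 (solList.getD m 0) % 26163 = b.val
        rw [List.getD_eq_getElem _ _ (by rw [trip_facts.2.2.2.2.2.2.2.2.2.2.2.2.2.2.1]; exact hm), hme,
          hlb, Nat.mod_eq_of_lt b.isLt]),
    show (⟨comList.getD k 0, (com_facts hk).1⟩ : Fin 26163) = a from Fin.ext hka, hb, ha]
  refine Prod.ext rfl (Prod.ext ?_ ?_)
  · show c * (c⁻¹ * r * c) * c⁻¹ = r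
    group
  · show c * (gq * (gq⁻¹ * (c⁻¹ * s * c) * gq) * gq⁻¹) * c⁻¹ = s
    group

theorem card_profile_le : Nat.card {p : Q3 × Q3 × Q3 // Profile p.1 p.2.1 p.2.2} ≤ 100465920 := by
  have hsub : ∀ p : {p : Q3 × Q3 × Q3 // Profile p.1 p.2.1 p.2.2}, ∃ u, tripleOf u = p.1 := fun p =>
    profile_cover p.2
  choose u hu using hsub
  refine (Nat.card_le_card_of_injective u fun p q e => Subtype.ext (by rw [← hu p, ← hu q, e])).trans ?_
  rw [Nat.card_prod, Nat.card_prod, card_K0, Nat.card_fin, Nat.card_fin]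

/-- The fixed triple. -/
noncomputable def tR : Fin 26163 := ⟨tripR, trip_facts.1⟩

/-- The fixed triple. -/
noncomputable def tS : Fin 26163 := ⟨tripS, trip_facts.2.1⟩

theorem tR_val : tR.val = tripR := rfl

theorem tS_val : tS.val = tripS := rfl

theorem orderOf_invQ (i : Fin 26163) : orderOf (invQ i) = 2 := by
  rw [invQ_conj, ← MulAut.conj_apply, MulEquiv.orderOf_eq, orderOf_tau]

theorem mat_pow_code {x : G9} {A : ℕ} (h : mat x = dec A) (n : ℕ) : mat (x ^ n) = dec (powN A n) := by
  rw [map_pow, h, dec_powN]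

theorem powN_lt {A : ℕ} : ∀ n, powN A n < 2 ^ 162
  | 0 => scN_one_lt
  | _ + 1 => mul9_lt _ _

theorem order_of_code {x y : G9} (hx : x * x = 1) (hy : y * y = 1) {A : ℕ} (hA : mat (x * y) = dec A)
    {n : ℕ} (hn : 0 < n) (h1 : powN A n = scN 1)
    (h2 : ∀ m < n, m ∣ n → powN A m ≠ scN 1) :
    orderOf (QuotientGroup.mk' (Subgroup.center G9) (x * y)) = n := by
  have hpow : (x * y) ^ n = 1 :=
    mat_injective (by rw [mat_pow_code hA, h1, dec_one, map_one])
  have hdvd : orderOf (QuotientGroup.mk' (Subgroup.center G9) (x * y)) ∣ n :=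
    orderOf_dvd_of_pow_eq_one (by rw [← map_pow, hpow, map_one])
  refine (Nat.le_of_dvd hn hdvd).antisymm (not_lt.1 fun hlt => h2 _ hlt hdvd ?_)
  exact code_eq (powN_lt _) scN_one_lt (mat_pow_code hA _)
    (by rw [pow_lift hx hy (pow_orderOf_eq_one _), map_one, dec_one])

theorem powN_ne_of_dvd {A m n : ℕ} (hmn : m ∣ n) (h : powN A n ≠ scN 1) : powN A m ≠ scN 1 := by
  intro e
  obtain ⟨q, rfl⟩ := hmn
  refine h (dec_inj (powN_lt _) scN_one_lt ?_)
  rw [dec_powN, pow_mul, ← dec_powN, e, dec_one, one_pow]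

theorem profile_base : Profile tau (invQ tR) (invQ tS) := by
  obtain ⟨-, -, a3, a4, a5, a6, a7, a8, a9, b1, b2, b3, -⟩ := trip_facts
  have hc : invT * invG tR = invG tR * invT := mat_injective (by
    rw [map_mul, map_mul, mat_invT, mat_invG, ← dec_mul9, ← dec_mul9]; exact congrArg dec a3)
  have hta : (invT * invG tR) * (invT * invG tR) = 1 := mul_self_of_commute hc (invG_sq tR)
  have hne : ∀ i : Fin 26163, clN 0 ≠ clN i.val → tau * invQ i ≠ 1 := fun i h e => by
    have hp : (invT * invG i) ^ 1 = 1 := pow_lift invT_sq (invG_sq i) (by rw [pow_one, map_mul]; exact e)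
    rw [pow_one] at hp
    refine h (dec_inj (clNode (by norm_num)).2.1 (clNode i.isLt).2.1 ?_)
    rw [← mat_invT, ← mat_invG]
    congr 1
    rw [← inv_eq_of_mul_eq_one_right hp, inv_eq_of_mul_eq_one_right invT_sq]
  refine ⟨orderOf_tau, orderOf_invQ _, orderOf_invQ _, ?_, ?_, ?_, ?_⟩
  · refine orderOf_eq_prime ?_ (hne tR a4)
    rw [tau, invQ, ← map_mul, ← map_pow, pow_two, hta, map_one]
  · haveI := Fact.mk Nat.prime_three
    refine orderOf_eq_prime ?_ (hne tS a6)
    rw [tau, invQ, ← map_mul, ← map_pow,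
      show (invT * invG tS) ^ 3 = 1 from mat_injective (by
        rw [mat_pow_code (A := mul9 (clN 0) (clN tripS)) (by
          rw [map_mul, mat_invT, mat_invG, tS_val, dec_mul9]), a5, dec_one, map_one]), map_one]
  · rw [invQ, invQ, ← map_mul]
    refine order_of_code (invG_sq _) (invG_sq _) (A := mul9 (clN tripR) (clN tripS))
      (by rw [map_mul, mat_invG, mat_invG, tR_val, tS_val, dec_mul9]) (by norm_num) a7 fun m hm hd => ?_
    rcases (show m ∣ 6 ∨ m ∣ 4 by revert hd; interval_cases m <;> decide) with h | h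
    · exact powN_ne_of_dvd h a8
    · exact powN_ne_of_dvd h a9
  · rw [tau, invQ, invQ, ← map_mul, ← map_mul]
    refine order_of_code hta (invG_sq _) (A := mul9 (mul9 (clN 0) (clN tripR)) (clN tripS))
      (by rw [map_mul, map_mul, mat_invT, mat_invG, mat_invG, tR_val, tS_val, dec_mul9, dec_mul9]) (by norm_num)
      b1 fun m hm hd => ?_
    rcases (show m ∣ 5 ∨ m ∣ 3 by revert hd; interval_cases m <;> decide) with h | h
    · exact powN_ne_of_dvd h b2
    · exact powN_ne_of_dvd h b3

theorem bif_cases (a b : Bool) (x y z : ℕ) : (bif a then x else bif b then y else z) = x ∨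
    (bif a then x else bif b then y else z) = y ∨ (bif a then x else bif b then y else z) = z := by
  cases a
  · cases b
    · exact Or.inr (Or.inr rfl)
    · exact Or.inr (Or.inl rfl)
  · exact Or.inl rfl

theorem letter3_cases (s : ℕ) : letter3 s = clN 0 ∨ letter3 s = clN tripR ∨ letter3 s = clN tripS :=
  bif_cases _ _ _ _ _

theorem triple_generates {K : Subgroup Q3} (h0 : tau ∈ K) (h1 : invQ tR ∈ K) (h2 : invQ tS ∈ K) :
    K = ⊤ := by
  let π := QuotientGroup.mk' (Subgroup.center G9)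
  have hl : ∀ s, ∃ g : G9, π g ∈ K ∧ mat g = dec (letter3 s) := by
    intro s
    rcases letter3_cases s with e | e | e <;> rw [e]
    · exact ⟨invT, h0, mat_invT⟩
    · exact ⟨invG tR, h1, mat_invG tR⟩
    · exact ⟨invG tS, h2, mat_invG tS⟩
  have hw : ∀ l : List ℕ, ∃ g : G9, π g ∈ K ∧ mat g = dec (wordVal letter3 l) := by
    intro l
    induction l with
    | nil => exact ⟨1, by rw [map_one]; exact one_mem _, by rw [map_one]; exact dec_one.symm⟩
    | cons s l ih =>
      obtain ⟨g, hg, hge⟩ := ih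
      obtain ⟨k, hk, hke⟩ := hl s
      exact ⟨k * g, by rw [map_mul]; exact mul_mem hk hg, by
        rw [map_mul, hke, hge, ← dec_mul9]; rfl⟩
  obtain ⟨-, -, -, -, -, -, -, -, -, -, -, -, hx, hy, -⟩ := trip_facts
  have hgen : ∀ (u : G9) (c A : ℕ) (l : List ℕ), 0 < c → c < 4 → mat u = dec A →
      wordVal letter3 l = mul9 (scN c) A → π u ∈ K := by
    intro u c A l hc0 hc4 hu hl'
    obtain ⟨g, hg, hge⟩ := hw l
    rw [hl', dec_mul9, dec_scN hc0 hc4, Matrix.smul_mul, one_mul, ← hu] at hge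
    have hz : g * u⁻¹ ∈ Subgroup.center G9 := mem_center_of_scalar (c := scK c) (by
      rw [map_mul, hge, Matrix.smul_mul, ← map_mul, mul_inv_cancel, map_one])
    have e : π (g * u⁻¹) = 1 := (QuotientGroup.eq_one_iff _).2 hz
    rw [map_mul, map_inv, mul_inv_eq_one] at e
    rwa [← e]
  have htop : K.comap π = ⊤ := eq_top_of_gens
    (hgen gX 2 genX wordTauX (by norm_num) (by norm_num) mat_gX hx)
    (hgen gY 3 genY wordTauY (by norm_num) (by norm_num) mat_gY hy)
  rw [← Subgroup.map_comap_eq_self_of_surjective (QuotientGroup.mk'_surjective _) K, htop,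
    Subgroup.map_top_of_surjective π (QuotientGroup.mk'_surjective _)]

theorem card_aut_le : Nat.card (MulAut Q3) ≤ 100465920 := by
  refine le_trans (Nat.card_le_card_of_injective (fun β : MulAut Q3 =>
    (⟨(β tau, β (invQ tR), β (invQ tS)), profile_base.map β⟩ :
      {p : Q3 × Q3 × Q3 // Profile p.1 p.2.1 p.2.2})) fun β γ e => ?_) card_profile_le
  have e' := congrArg Subtype.val e
  simp only [Prod.mk.injEq] at e'
  have h := triple_generates (K := MonoidHom.eqLocus (β : Q3 →* Q3) (γ : Q3 →* Q3)) e'.1 e'.2.1 e'.2.2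
  refine MulEquiv.ext fun x => ?_
  have : x ∈ MonoidHom.eqLocus (β : Q3 →* Q3) (γ : Q3 →* Q3) := h ▸ Subgroup.mem_top x
  exact this

/-! ### The semilinear automorphism -/

/-- Squaring, as an automorphism of the field. -/
noncomputable def sigK : K4 ≃+* K4 where
  toFun x := x ^ 2
  invFun x := x ^ 2
  left_inv := by intro x; revert x; decide +kernel
  right_inv := by intro x; revert x; decide +kernel
  map_mul' := by decide +kernel
  map_add' := by decide +kernel

/-- The permutation of coordinates. -/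
def permPhi : Fin 9 ≃ Fin 9 where
  toFun i := Fin.ofNat 9 (phiPerm.getD i.val 0)
  invFun i := Fin.ofNat 9 (phiPermInv.getD i.val 0)
  left_inv := by intro i; revert i; decide +kernel
  right_inv := by intro i; revert i; decide +kernel

/-- The semilinear map on matrices. -/
noncomputable def phiM : M9 ≃+* M9 :=
  (Matrix.reindexAlgEquiv ℤ K4 permPhi).toRingEquiv.trans sigK.mapMatrix

theorem phiM_apply (M : M9) (i j : Fin 9) : phiM M i j = M (permPhi.symm i) (permPhi.symm j) ^ 2 := rfl

theorem phi_defGen : ∀ s : Fin 43, phiImage.getD s.val 0 < 43 ∧ ∀ p : Fin 9 × Fin 9,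
    dec (defGen s.val) (permPhi.symm p.1) (permPhi.symm p.2) ^ 2 =
      dec (defGen (phiImage.getD s.val 0)) p.1 p.2 := by decide +kernel

theorem inG_phi_word : ∀ {l : List ℕ}, (∀ s ∈ l, s < 43) → InG (phiM (dec (wordVal defGen l)))
  | [], _ => by
    change InG (phiM (dec (scN 1)))
    rw [dec_one, map_one]; exact InG.one
  | s :: l, h => by
    change InG (phiM (dec (mul9 (defGen s) (wordVal defGen l))))
    rw [dec_mul9, map_mul]
    refine InG.mul ?_ (inG_phi_word fun t ht => h t (List.mem_cons_of_mem _ ht))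
    obtain ⟨h1, h2⟩ := phi_defGen ⟨s, h s List.mem_cons_self⟩
    rw [show phiM (dec (defGen s)) = dec (defGen (phiImage.getD s 0)) from
      Matrix.ext fun i j => (phiM_apply _ i j).trans (h2 (i, j))]
    exact inG_defGen h1

theorem inG_phi (g : G9) : InG (phiM (mat g)) := by
  obtain ⟨-, -, -, -, -, -, -, hx, hy, hxs, hys, -⟩ := gen_facts
  let K : Submonoid G9 :=
    { carrier := {g | InG (phiM (mat g))}
      one_mem' := by show InG (phiM (mat 1)); rw [map_one, map_one]; exact InG.one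
      mul_mem' := fun {a b} ha hb => by
        show InG (phiM (mat (a * b))); rw [map_mul, map_mul]; exact ha.mul hb }
  let U : Subgroup G9 :=
    { toSubmonoid := K
      inv_mem' := fun {x} hx => by
        rw [inv_eq_of_mul_eq_one_right (mul_pow_sub_one
          (orderOf_pos x).ne' x |>.trans (pow_orderOf_eq_one x))]
        exact pow_mem (show x ∈ K from hx) _ }
  have hU : U = ⊤ := eq_top_of_gens
    (show InG (phiM (mat gX)) by rw [mat_gX, ← hx]; exact inG_phi_word hxs)
    (show InG (phiM (mat gY)) by rw [mat_gY, ← hy]; exact inG_phi_word hys)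
  exact (hU ▸ Subgroup.mem_top g : g ∈ U)

/-- The semilinear map on the group. -/
noncomputable def phiHom : G9 →* G9 :=
  MonoidHom.mk' (fun g => (exists_mat (inG_phi g)).choose) fun a b => mat_injective
    ((exists_mat (inG_phi (a * b))).choose_spec.trans
      (((congrArg phiM (map_mul mat a b)).trans (map_mul phiM _ _)).trans
        ((congrArg₂ (· * ·) (exists_mat (inG_phi a)).choose_spec (exists_mat (inG_phi b)).choose_spec).symm.trans
          (map_mul mat _ _).symm)))

theorem mat_phiHom (g : G9) : mat (phiHom g) = phiM (mat g) := (exists_mat (inG_phi g)).choose_spec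

/-- The semilinear automorphism. -/
noncomputable def phiG : G9 ≃* G9 :=
  MulEquiv.ofBijective phiHom (Finite.injective_iff_bijective.1 fun a b h => mat_injective
    (phiM.injective (by rw [← mat_phiHom, ← mat_phiHom, h])))

theorem map_center_phiG :
    (Subgroup.center G9).map (phiG : G9 →* G9) = Subgroup.center G9 := by
  ext x
  constructor
  · rintro ⟨z, hz, rfl⟩
    refine Subgroup.mem_center_iff.2 fun g => phiG.symm.injective ?_
    simpa using Subgroup.mem_center_iff.1 hz (phiG.symm g)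
  · intro hx
    refine ⟨phiG.symm x, Subgroup.mem_center_iff.2 fun g => phiG.injective ?_, phiG.apply_symm_apply x⟩
    simpa using Subgroup.mem_center_iff.1 hx (phiG g)

/-- The automorphism of the simple group. -/
noncomputable def phiQ : MulAut Q3 := QuotientGroup.congr _ _ phiG map_center_phiG

theorem trace_genX : Matrix.trace (dec genX) = w4 ∧ w4 ^ 2 ≠ w4 := by decide +kernel

theorem phiQ_not_inner : phiQ ∉ Cfsg.Inn Q3 := by
  rintro ⟨x, hx⟩
  obtain ⟨g, rfl⟩ := QuotientGroup.mk'_surjective (Subgroup.center G9) x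
  have e := MulEquiv.congr_fun hx (QuotientGroup.mk' _ gX)
  rw [MulAut.conj_apply, ← map_inv, ← map_mul, ← map_mul] at e
  have e' : QuotientGroup.mk' (Subgroup.center G9) (g * gX * g⁻¹) =
      QuotientGroup.mk' _ (phiG gX) := e
  rw [QuotientGroup.mk'_eq_mk'] at e'
  obtain ⟨z, hz, hze⟩ := e'
  have h19 : (phiG gX) ^ 19 = 1 := by rw [← map_pow, gX_pow, map_one]
  have hz3 : z ^ 3 = 1 := by
    have e' := pow_card_eq_one' (x := (⟨z, hz⟩ : Subgroup.center G9))
    rw [card_center] at e'
    exact congrArg Subtype.val e'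
  have hcom : Commute (g * gX * g⁻¹) z := Subgroup.mem_center_iff.1 hz _
  rw [← hze, hcom.mul_pow, conj_pow, gX_pow, mul_one, mul_inv_cancel, one_mul] at h19
  have hz1 : z = 1 := by
    calc z = z * (z ^ 3) ^ 6 := by rw [hz3, one_pow, mul_one]
      _ = 1 := by rw [← pow_mul, ← pow_succ', h19]
  rw [hz1, mul_one] at hze
  have ht := congrArg (fun M : M9 => Matrix.trace M) (congrArg mat hze)
  have hphi : Matrix.trace (mat (phiG gX)) = Matrix.trace (dec genX) ^ 2 := by
    rw [show mat (phiG gX) = phiM (mat gX) from mat_phiHom gX, mat_gX]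
    simp only [Matrix.trace, Matrix.diag, phiM_apply]
    have hs := map_sum sigK (fun i => dec genX (permPhi.symm i) (permPhi.symm i)) Finset.univ
    rw [Equiv.sum_comp permPhi.symm (fun i => dec genX i i)] at hs
    exact hs.symm
  rw [hphi, map_mul, map_mul, Matrix.trace_mul_cycle, ← map_mul, inv_mul_cancel, map_one, one_mul,
    mat_gX, trace_genX.1] at ht
  exact trace_genX.2 ht.symm

theorem card_out_Q3 : Nat.card (Cfsg.Out Q3) = 2 := by
  have : Finite (MulAut Q3) := Finite.of_injective (fun β => (β : Q3 → Q3)) DFunLike.coe_injective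
  have hinn : Nat.card (Cfsg.Inn Q3) = 50232960 := by
    rw [← card_Q3]
    refine (Nat.card_congr (MonoidHom.ofInjective (f := (MulAut.conj : Q3 →* MulAut Q3)) ?_).toEquiv).symm
    rw [← MonoidHom.ker_eq_bot_iff]
    have hs := isSimple_Q3
    refine (hs.eq_bot_or_eq_top_of_normal _ (MonoidHom.normal_ker _)).resolve_right fun h => ?_
    have hc : ∀ a b : Q3, a * b = b * a := fun a b => by
      have e := MulEquiv.congr_fun (MonoidHom.mem_ker.1 (h ▸ Subgroup.mem_top a :
        a ∈ (MulAut.conj : Q3 →* MulAut Q3).ker)) b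
      rw [MulAut.conj_apply, MulAut.one_apply, mul_inv_eq_iff_eq_mul] at e
      exact e
    have h1920 := card_centralizer
    rw [show Subgroup.centralizer ({tau} : Set Q3) = ⊤ from eq_top_iff.2 fun a _ =>
      Subgroup.mem_centralizer_singleton_iff.2 (hc a tau), Subgroup.card_top, card_Q3] at h1920
    norm_num at h1920
  have hmul : Nat.card (MulAut Q3) = Nat.card (Cfsg.Out Q3) * Nat.card (Cfsg.Inn Q3) :=
    Subgroup.card_eq_card_quotient_mul_card_subgroup _
  have hle := card_aut_le
  rw [hmul, hinn] at hle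
  have hne : Nontrivial (Cfsg.Out Q3) :=
    ⟨⟨(phiQ : Cfsg.Out Q3), 1, fun e => phiQ_not_inner ((QuotientGroup.eq_one_iff _).1 e)⟩⟩
  have := Finite.one_lt_card (α := Cfsg.Out Q3)
  omega

theorem card_out_of_equiv {G : Type*} [Group G] (e : Q3 ≃* G) : Nat.card (Cfsg.Out G) = 2 := by
  rw [← card_out_Q3]
  refine Nat.card_congr (QuotientGroup.congr _ _ (MulAut.congr e) ?_).toEquiv.symm |>.trans rfl
  ext a
  constructor
  · rintro ⟨b, ⟨g, rfl⟩, rfl⟩
    exact ⟨e g, MulEquiv.ext fun x => by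
      show e g * x * (e g)⁻¹ = e (g * e.symm x * g⁻¹)
      rw [map_mul, map_mul, map_inv, e.apply_symm_apply]⟩
  · rintro ⟨g, rfl⟩
    exact ⟨MulAut.conj (e.symm g), ⟨_, rfl⟩, MulEquiv.ext fun x => by
      show e (e.symm g * e.symm x * (e.symm g)⁻¹) = g * x * g⁻¹
      rw [map_mul, map_mul, map_inv, e.apply_symm_apply, e.apply_symm_apply]⟩

end Cfsg.Agent.J3
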