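import Cfsg.Agent.Lib.J3.Tables
import Cfsg.Agent.Lib.J3.DataSubgroup

/-!
# A subgroup of order 8160
-/

set_option autoImplicit false

namespace Cfsg.Agent.J3

open Cfsg.Agent.Presented (force checkBelow)

/-- The elements of the subgroup. -/
noncomputable def rN (a : ℕ) : ℕ := subgData.get 162 a

/-- The generator of the subgroup with index `s`. -/
noncomputable def rGen (s : ℕ) : ℕ := bif Nat.beq s 0 then subgGenA else subgGenB

/-- The list is a subgroup meeting the scalars trivially. -/
noncomputable def rChk (a : ℕ) : Bool :=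
  force (rN a) fun h => force (subgNext.get 16 (2 * a)) fun n => force (subgNext.get 16 (2 * a + 1)) fun m =>
    Nat.blt h (Nat.pow 2 162) && Nat.blt n 8160 && Nat.blt m 8160 &&
    Nat.beq (mul9 subgGenA h) (rN n) && Nat.beq (mul9 subgGenB h) (rN m) &&
    (Nat.beq a 0 || force (subgPar.get 16 a) fun p =>
      Nat.blt (p / 2) a && Nat.beq (mul9 (rGen (p % 2)) (rN (p / 2))) h) &&
    !(Nat.beq h (scN 2)) && !(Nat.beq h (scN 3)) &&
    Nat.blt (subgOrd.get 16 a) 8160 &&
    (Nat.beq (a + 1) 8160 || Nat.blt (rN (subgOrd.get 16 a)) (rN (subgOrd.get 16 (a + 1))))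

theorem rChk_all : checkBelow rChk 13 8160 = true := by decide +kernel

/-- Coordinates of the two generators. -/
noncomputable def rCoordOK : Bool :=
  Nat.blt (subgCoord.getD 0 0) 23256 && Nat.blt (subgCoord.getD 1 0) 6480 &&
  Nat.blt (subgCoord.getD 2 0) 23256 && Nat.blt (subgCoord.getD 3 0) 6480 &&
  Nat.beq (mul9 (trN (subgCoord.getD 0 0)) (stN (subgCoord.getD 1 0))) subgGenA &&
  Nat.beq (mul9 (trN (subgCoord.getD 2 0)) (stN (subgCoord.getD 3 0))) subgGenB &&
  Nat.beq (rN 0) (scN 1)

theorem rCoordOK_eq : rCoordOK = true := by decide +kernel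

end Cfsg.Agent.J3
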