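import Cfsg.Agent.Lib.J3.Simple
import Cfsg.Agent.Lib.J3.SubgroupCheck
import Cfsg.Prelude.Def_Sporadic

/-!
# The action on 6156 cosets
-/

set_option autoImplicit false

namespace Cfsg.Agent.J3

open Cfsg.Agent.G2Four (K4)
open Cfsg.Agent.Presented (checkBelow_spec)

attribute [local irreducible] trN stN rN genN stGen nvN infoScal infoLead Cfsg.Agent.Presented.NTree.get

theorem r_spec {a : ℕ} (ha : a < 8160) :
    rN a < 2 ^ 162 ∧ subgNext.get 16 (2 * a) < 8160 ∧ subgNext.get 16 (2 * a + 1) < 8160 ∧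
    dec subgGenA * dec (rN a) = dec (rN (subgNext.get 16 (2 * a))) ∧
    dec subgGenB * dec (rN a) = dec (rN (subgNext.get 16 (2 * a + 1))) ∧
    (a = 0 ∨ (subgPar.get 16 a / 2 < a ∧
      dec (rGen (subgPar.get 16 a % 2)) * dec (rN (subgPar.get 16 a / 2)) = dec (rN a))) ∧
    rN a ≠ scN 2 ∧ rN a ≠ scN 3 ∧ subgOrd.get 16 a < 8160 ∧
    (a + 1 = 8160 ∨ rN (subgOrd.get 16 a) < rN (subgOrd.get 16 (a + 1))) := by
  have h := checkBelow_spec rChk_all a ha
  simp only [rChk, Presented.force_eq, Bool.and_eq_true, Bool.or_eq_true, Bool.not_eq_true',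
    Nat.blt_eq, Nat.beq_eq] at h
  obtain ⟨⟨⟨⟨⟨⟨⟨⟨⟨c1, c2⟩, c3⟩, c4⟩, c5⟩, c6⟩, c7⟩, c8⟩, c9⟩, c10⟩ := h
  refine ⟨c1, c2, c3, by rw [← dec_mul9, c4], by rw [← dec_mul9, c5], ?_, ?_, ?_, c9, c10⟩
  · rcases c6 with h0 | ⟨h0, h1⟩
    · exact Or.inl h0
    · exact Or.inr ⟨h0, by rw [← dec_mul9, h1]⟩
  · exact Nat.ne_of_beq_eq_false c7
  · exact Nat.ne_of_beq_eq_false c8

theorem rCoord : InG (dec subgGenA) ∧ InG (dec subgGenB) ∧ dec (rN 0) = 1 := by
  have h := rCoordOK_eq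
  simp only [rCoordOK, Bool.and_eq_true, Nat.blt_eq, Nat.beq_eq] at h
  obtain ⟨⟨⟨⟨⟨⟨a, b⟩, c⟩, d⟩, e⟩, f⟩, g⟩ := h
  refine ⟨?_, ?_, by rw [g, dec_one]⟩
  · rw [← e, dec_mul9]; exact (inG_tr a).mul (inG_st b)
  · rw [← f, dec_mul9]; exact (inG_tr c).mul (inG_st d)

theorem inG_r : ∀ {a : ℕ}, a < 8160 → InG (dec (rN a)) := by
  intro a
  induction a using Nat.strong_induction_on with
  | _ a ih =>
    intro ha
    rcases (r_spec ha).2.2.2.2.2.1 with rfl | ⟨hlt, he⟩
    · rw [rCoord.2.2]; exact InG.one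
    · rw [← he]
      refine InG.mul ?_ (ih _ hlt (by omega))
      unfold rGen
      cases Nat.beq (subgPar.get 16 a % 2) 0
      · exact rCoord.2.1
      · exact rCoord.1

theorem r_mul : ∀ {a b : ℕ}, a < 8160 → b < 8160 →
    ∃ c < 8160, dec (rN a) * dec (rN b) = dec (rN c) := by
  intro a
  induction a using Nat.strong_induction_on with
  | _ a ih =>
    intro b ha hb
    rcases (r_spec ha).2.2.2.2.2.1 with rfl | ⟨hlt, he⟩
    · exact ⟨b, hb, by rw [rCoord.2.2, one_mul]⟩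
    · obtain ⟨c, hc, hce⟩ := ih _ hlt (by omega) hb
      obtain ⟨-, n5, n6, n7, n8, -⟩ := r_spec hc
      unfold rGen at he
      cases hs : Nat.beq (subgPar.get 16 a % 2) 0 <;> rw [hs] at he <;>
        simp only [cond_false, cond_true] at he
      · exact ⟨_, n6, by rw [← he, mul_assoc, hce, n8]⟩
      · exact ⟨_, n5, by rw [← he, mul_assoc, hce, n7]⟩

/-- The subgroup of order 8160. -/
noncomputable def Rsub : Subgroup G9 where
  carrier := {g | ∃ a < 8160, mat g = dec (rN a)}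
  one_mem' := ⟨0, by norm_num, by rw [map_one, rCoord.2.2]⟩
  mul_mem' := by
    rintro g h ⟨a, ha, hga⟩ ⟨b, hb, hhb⟩
    obtain ⟨c, hc, hce⟩ := r_mul ha hb
    exact ⟨c, hc, by rw [map_mul, hga, hhb, hce]⟩
  inv_mem' := by
    rintro g hg
    have key : ∀ n : ℕ, ∃ a < 8160, mat (g ^ n) = dec (rN a) := by
      intro n
      induction n with
      | zero => exact ⟨0, by norm_num, by rw [pow_zero, map_one, rCoord.2.2]⟩
      | succ n ih =>
        obtain ⟨a, ha, hga⟩ := ih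
        obtain ⟨b, hb, hgb⟩ := hg
        obtain ⟨c, hc, hce⟩ := r_mul ha hb
        exact ⟨c, hc, by rw [pow_succ, map_mul, hga, hgb, hce]⟩
    rw [Set.mem_setOf_eq, inv_eq_of_mul_eq_one_right (mul_pow_sub_one
      (orderOf_pos g).ne' g |>.trans (pow_orderOf_eq_one g))]
    exact key _

theorem card_Rsub : Nat.card Rsub = 8160 := by
  let f : Fin 8160 → Rsub := fun a =>
    ⟨(exists_mat (inG_r a.isLt)).choose, a.val, a.isLt, (exists_mat (inG_r a.isLt)).choose_spec⟩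
  rw [← Nat.card_eq_of_bijective f ⟨?_, ?_⟩, Nat.card_fin]
  · intro a b h
    have e : mat (f a).1 = mat (f b).1 := by rw [h]
    rw [(exists_mat (inG_r a.isLt)).choose_spec, (exists_mat (inG_r b.isLt)).choose_spec] at e
    exact Fin.ext (injOn_of_ord (f := rN) (fun k hk => (r_spec hk).2.2.2.2.2.2.2.2.1)
      (fun k hk => (r_spec hk).2.2.2.2.2.2.2.2.2) a.isLt b.isLt
      (dec_inj (r_spec a.isLt).1 (r_spec b.isLt).1 e))
  · rintro ⟨g, hg⟩
    obtain ⟨a, ha, he⟩ := hg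
    exact ⟨⟨a, ha⟩, Subtype.ext (mat_injective ((exists_mat (inG_r ha)).choose_spec.trans he.symm))⟩

theorem eq_one_of_Rsub_center {g : G9} (hg : g ∈ Rsub) (hz : g ∈ Subgroup.center G9) : g = 1 := by
  obtain ⟨a, ha, he⟩ := hg
  obtain ⟨c, hc⟩ := scalar_of_center hz
  have hc0 : c ≠ 0 := fun e => mat_ne_zero g (by rw [hc, e, zero_smul])
  obtain ⟨k, hk1, hk⟩ := (show ∀ d : K4, d ≠ 0 → ∃ k : Fin 4, 0 < k.val ∧ scK k.val = d by
    decide +kernel) c hc0
  have hlt : scN k.val < 2 ^ 162 := (show ∀ k : Fin 4, scN k.val < 2 ^ 162 by decide +kernel) k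
  have e : rN a = scN k.val := dec_inj (r_spec ha).1 hlt (by
    rw [← he, hc, dec_scN hk1 k.isLt, hk])
  have h2 := (r_spec ha).2.2.2.2.2.2.1
  have h3 := (r_spec ha).2.2.2.2.2.2.2.1
  have hk4 := k.isLt
  refine mat_injective ?_
  rw [he, map_one, e]
  interval_cases k.val
  · exact dec_one
  · exact absurd e h2
  · exact absurd e h3

/-- The image in the central quotient. -/
noncomputable def Ksub : Subgroup Q3 := Rsub.map (QuotientGroup.mk' _)

theorem card_Ksub : Nat.card Ksub = 8160 := by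
  rw [← card_Rsub]
  refine (Nat.card_eq_of_bijective (fun r : Rsub =>
    (⟨QuotientGroup.mk' _ r.1, ⟨r.1, r.2, rfl⟩⟩ : Ksub)) ⟨?_, ?_⟩).symm
  · intro r s h
    have h' : (r.1 : Q3) = (s.1 : Q3) := congrArg Subtype.val h
    have := eq_one_of_Rsub_center (mul_mem (inv_mem r.2) s.2) (QuotientGroup.eq.1 h')
    exact Subtype.ext (inv_mul_eq_one.1 this)
  · rintro ⟨x, g, hg, rfl⟩
    exact ⟨⟨g, hg⟩, rfl⟩

theorem index_Ksub : Ksub.index = 6156 := by
  have h := Subgroup.card_mul_index Ksub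
  rw [card_Ksub, card_Q3] at h
  omega

theorem exists_perm_group : ∃ H : Subgroup (Equiv.Perm (Fin 6156)), IsJ3 H ∧
    MulAction.IsPretransitive H (Fin 6156) ∧
    Nat.card (MulAction.stabilizer H (0 : Fin 6156)) = 8160 := by
  let e : (Q3 ⧸ Ksub) ≃ Fin 6156 := Finite.equivFinOfCardEq index_Ksub
  let φ : Q3 →* Equiv.Perm (Fin 6156) :=
    (Equiv.permCongrHom e : Equiv.Perm (Q3 ⧸ Ksub) →* Equiv.Perm (Fin 6156)).comp
      (MulAction.toPermHom Q3 (Q3 ⧸ Ksub))
  have hφ : ∀ g q, φ g (e q) = e (g • q) := fun g q => by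
    simp [φ, Equiv.permCongrHom]
  have hinj : Function.Injective φ := by
    rw [← MonoidHom.ker_eq_bot_iff]
    have := isSimple_Q3
    refine (this.eq_bot_or_eq_top_of_normal _ φ.normal_ker).resolve_right fun htop => ?_
    have hK : (⊤ : Subgroup Q3) ≤ Ksub := fun g _ => by
      have h1 := hφ g ((1 : Q3) : Q3 ⧸ Ksub)
      rw [MonoidHom.mem_ker.1 (htop ▸ Subgroup.mem_top g), Equiv.Perm.one_apply] at h1
      have h2 := e.injective h1
      rw [MulAction.Quotient.smul_mk, smul_eq_mul, mul_one] at h2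
      simpa using QuotientGroup.eq.1 h2
    have := card_Ksub
    rw [top_le_iff.1 hK, Subgroup.card_top, card_Q3] at this
    norm_num at this
  let ψ : Q3 ≃* φ.range := MonoidHom.ofInjective hinj
  have htr : MulAction.IsPretransitive φ.range (Fin 6156) := ⟨fun x y => by
    obtain ⟨g, hg⟩ := MulAction.exists_smul_eq Q3 (e.symm x) (e.symm y)
    refine ⟨⟨φ g, g, rfl⟩, ?_⟩
    show φ g x = y
    rw [← e.apply_symm_apply x, hφ, hg, e.apply_symm_apply]⟩
  have hcard : Nat.card φ.range = 50232960 := by rw [← Nat.card_congr ψ.toEquiv, card_Q3]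
  refine ⟨φ.range, ⟨?_, hcard⟩, htr, ?_⟩
  · have := isSimple_Q3
    have := ψ.symm.toEquiv.nontrivial
    exact IsSimpleGroup.isSimpleGroup_of_surjective (G := Q3) ψ.toMonoidHom ψ.surjective
  · have h := Subgroup.card_mul_index (MulAction.stabilizer φ.range (0 : Fin 6156))
    rw [MulAction.index_stabilizer_of_transitive φ.range (0 : Fin 6156), Nat.card_fin, hcard] at h
    omega

end Cfsg.Agent.J3
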