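import Cfsg.Agent.Lib.J3.SylowTable
import Cfsg.Agent.Lib.J3.Check

/-!
# The checks on the Sylow table
-/

set_option autoImplicit false

namespace Cfsg.Agent.J3

open Cfsg.Agent.Presented (force checkBelow)

theorem elemChk_all : checkBelow elemChk 8 128 = true := by decide +kernel

theorem mulChk_all : checkBelow mulChk 15 16384 = true := by decide +kernel

theorem sN_zero : sN 0 = scN 1 := by decide +kernel

/-- The facts about the group structure. -/
noncomputable def structChk (a : ℕ) : Bool :=
  (!(checkBelow (fun b => Nat.beq (mN a b) (mN b a)) 8 128) || Nat.beq a 0 || Nat.beq a sylZ) &&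
  (!(checkBelow (fun b => !(inCore b) || Nat.beq (mN a b) (mN b a)) 8 128) || inCore a) &&
  (!(inCore a) || (inCore (iN a) &&
    checkBelow (fun b => inCore (mN (mN b a) (iN b)) && (!(inCore b) || inCore (mN a b))) 8 128)) &&
  (Nat.beq (mN (mN a a) (mN a a)) 0 || Nat.beq (labN a) 1 || Nat.beq (labN a) 2 || Nat.beq (labN a) 4)

theorem structChk_all : checkBelow structChk 8 128 = true := by decide +kernel

/-- The element of the normaliser and its two factors. -/
noncomputable def normChk : Bool :=
  checkBelow (fun a => force (sylBPerm.getD a 0) fun p =>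
      Nat.blt p 128 && Nat.beq (labN p) (rot3 (labN a)) && Nat.beq (mul9 bN (sN a)) (mul9 (sN p) bN)) 8 128 &&
  checkBelow (fun k => force (sylCore.getD k 0) fun r =>
      force (sylT1Perm.getD k 0) fun p => force (sylT2Perm.getD k 0) fun q =>
      Nat.blt r 128 && inCore r && Nat.blt p 128 && inCore p && Nat.blt q 128 && inCore q &&
      Nat.beq (mul9 sylT1 (sN r)) (mul9 (sN p) sylT1) &&
      Nat.beq (mul9 sylT2 (sN r)) (mul9 (sN q) sylT2)) 6 32 &&
  checkBelow (fun a => !(inCore a) || !(checkBelow (fun k => !(Nat.beq (sylCore.getD k 0) a)) 6 32)) 8 128 &&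
  Nat.beq (powN sylT1 (Nat.pow 2 sylT1Exp)) (scN 1) &&
  Nat.beq (powN sylT2 (Nat.pow 2 sylT2Exp)) (scN 1) &&
  Nat.blt (sylTCoord.getD 0 0) 23256 && Nat.blt (sylTCoord.getD 1 0) 6480 &&
  Nat.blt (sylTCoord.getD 2 0) 23256 && Nat.blt (sylTCoord.getD 3 0) 6480 &&
  Nat.beq (mul9 (trN (sylTCoord.getD 0 0)) (stN (sylTCoord.getD 1 0))) sylT1 &&
  Nat.beq (mul9 (trN (sylTCoord.getD 2 0)) (stN (sylTCoord.getD 3 0))) sylT2 &&
  inCore 0 && Nat.blt sylZ 128 && !(Nat.beq sylZ 0)

theorem normChk_eq : normChk = true := by decide +kernel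

/-- The steps out of the central involution. -/
noncomputable def stepChk : List (ℕ × ℕ × ℕ × ℕ × ℕ) → List ℕ → Bool :=
  List.rec (fun known =>
      checkBelow (fun v => (known.any fun a => known.any fun b => known.any fun c =>
        Nat.beq (labN a ^^^ labN b ^^^ labN c) v)) 4 8)
    (fun s _ ih known => match s with
      | (y, i, j, g, x) =>
        Nat.blt y 128 && Nat.blt i 23256 && Nat.blt j 6480 && known.contains x &&
        Nat.beq (mul9 (trN i) (stN j)) g && Nat.beq (mul9 g (sN x)) (mul9 (sN y) g) && ih (y :: known))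

theorem stepChk_eq : stepChk sylSteps [sylZ, 0] = true := by decide +kernel

end Cfsg.Agent.J3
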