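import Cfsg.Agent.Lib.J3.SylowTwo

/-!
# Automorphisms induced on the Sylow 2-subgroup of J₃, and simplicity of the fusion system
-/

set_option autoImplicit false
set_option maxHeartbeats 400000
set_option linter.unusedSectionVars false

namespace Cfsg.Agent.J3

open Cfsg Cfsg.FusionSystem Cfsg.Agent.Fusion.GroupSimple

attribute [local irreducible] trN stN sN mN labN genN stGen nvN infoScal infoLead
  Cfsg.Agent.Presented.NTree.get

variable {G : Type*} [Group G] [Finite G] (ι : Q3 ≃* G) (S : Sylow 2 G)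
  (hS : (S : Subgroup G) = sylP.map ι.toMonoidHom)

/-- `x` sends each label to the image under `f`. -/
def Sends (x : G) (f : ℕ → ℕ) : Prop :=
  ∀ a b : Fin 128, x * el128 ι a * x⁻¹ = el128 ι b → labN b.val = f (labN a.val)

include hS in
theorem conj_mem_el {x : G} (hx : x ∈ Subgroup.normalizer ((S : Subgroup G) : Set G)) (a : Fin 128) :
    ∃ b, x * el128 ι a * x⁻¹ = el128 ι b := by
  obtain ⟨b, hb⟩ := (mem_S ι S hS).1
    ((conj_mem_iff_of_mem_normalizer hx).2 (el128_mem ι S hS a))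
  exact ⟨b, hb.symm⟩

theorem label_of_mul {a b : Fin 128} : labN (sM a b).val = labN a.val ^^^ labN b.val :=
  (syl_mul a.isLt b.isLt).2.1

include hS in
theorem sends_comp {x y : G} {f g : ℕ → ℕ} (hx : Sends ι x f) (hy : Sends ι y g)
    (hyN : y ∈ Subgroup.normalizer ((S : Subgroup G) : Set G)) : Sends ι (x * y) (fun v => f (g v)) := by
  intro a b h
  obtain ⟨c, hc⟩ := conj_mem_el ι S hS hyN a
  show labN b.val = f (g (labN a.val))
  rw [← hy a c hc]
  refine hx c b ?_
  rw [← hc, ← h]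
  group

include hS in
theorem sends_pow {x : G} {f : ℕ → ℕ} (hx : Sends ι x f)
    (hxN : x ∈ Subgroup.normalizer ((S : Subgroup G) : Set G)) : ∀ n, Sends ι (x ^ n) (f^[n])
  | 0 => fun a b h => by
    rw [pow_zero, one_mul, inv_one, mul_one] at h
    rw [el128_injective ι h]; rfl
  | n + 1 => by
    have h := sends_comp ι S hS hx (sends_pow hx hxN n) (Subgroup.pow_mem _ hxN n)
    rw [← pow_succ'] at h
    intro a b hab
    rw [Function.iterate_succ_apply']
    exact h a b hab

include hS in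
theorem sends_of_mem {x : G} (hx : x ∈ (S : Subgroup G)) : Sends ι x id := by
  obtain ⟨c, rfl⟩ := (mem_S ι S hS).1 hx
  intro a b h
  rw [mul_inv_eq_iff_eq_mul, el128_mul, el128_mul] at h
  have h1 := congrArg (fun t : Fin 128 => labN c.val ^^^ labN t.val) (el128_injective ι h)
  simp only [label_of_mul] at h1
  rw [← Nat.xor_assoc, Nat.xor_self, Nat.zero_xor, Nat.xor_comm (labN b.val), ← Nat.xor_assoc,
    Nat.xor_self, Nat.zero_xor] at h1
  exact h1.symm

theorem labN_lt (a : Fin 128) : labN a.val < 8 := (syl_elem a.isLt).2.2.2.2.2.2.2.1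

theorem exists_label {v : ℕ} (hv : v < 8) : ∃ a : Fin 128, labN a.val = v :=
  ⟨_, (syl_reps ⟨v, hv⟩).choose_spec.1⟩

theorem xor_bits : ∀ v : Fin 8,
    v.val = (if v.val.testBit 0 then 1 else 0) ^^^ (if v.val.testBit 1 then 2 else 0) ^^^
      (if v.val.testBit 2 then 4 else 0) := by decide +kernel

include hS in
/-- The labels are permuted, linearly and preserving the three classes of elements of order eight. -/
theorem exists_sends {x : G} (hx : x ∈ Subgroup.normalizer ((S : Subgroup G) : Set G)) :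
    ∃ (u v w : ℕ), u ∈ [1, 2, 4] ∧ v ∈ [1, 2, 4] ∧ w ∈ [1, 2, 4] ∧ u ≠ v ∧ u ≠ w ∧ v ≠ w ∧
      Sends ι x (fun t => (if t.testBit 0 then u else 0) ^^^ (if t.testBit 1 then v else 0) ^^^
        (if t.testBit 2 then w else 0)) := by
  choose π hπ using conj_mem_el ι S hS hx
  have hπm : ∀ a b, π (sM a b) = sM (π a) (π b) := fun a b => el128_injective ι (by
    rw [← hπ, ← el128_mul, ← el128_mul, ← hπ, ← hπ]; group)
  have hπi : Function.Injective π := fun a b h => el128_injective ι (by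
    have := congrArg (el128 ι) h
    rw [← hπ, ← hπ] at this
    exact mul_left_cancel (mul_right_cancel this))
  have hπ0 : π 0 = 0 := el128_injective ι (by rw [← hπ, el128_zero, mul_one, mul_inv_cancel])
  let L : Fin 128 → ℕ := fun a => labN (π a).val
  have hLm : ∀ a b, L (sM a b) = L a ^^^ L b := fun a b => by
    show labN (π (sM a b)).val = _
    rw [hπm, label_of_mul]
  have h0 : ∀ a, labN a.val = 0 → L a = 0 := by
    intro a ha
    obtain ⟨c, hc, d, hd, he⟩ := (syl_elem a.isLt).2.2.2.2.2.2.2.2 ha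
    have : a = sM (sM ⟨c, hc⟩ ⟨c, hc⟩) (sM ⟨d, hd⟩ ⟨d, hd⟩) := Fin.ext he.symm
    rw [this, hLm, hLm, hLm]
    simp
  have hfac : ∀ a b, labN a.val = labN b.val → L a = L b := by
    intro a b h
    have := h0 (sM a b) (by rw [label_of_mul, h, Nat.xor_self])
    rw [hLm] at this
    simpa [Nat.xor_assoc] using congrArg (fun t => t ^^^ L b) this
  choose r hr using syl_reps
  have he8 : ∀ v : Fin 8, (v.val = 1 ∨ v.val = 2 ∨ v.val = 4) → L (r v) ∈ [1, 2, 4] := by
    intro v hv
    have h1 : sM (sM (r v) (r v)) (sM (r v) (r v)) ≠ 0 := fun h =>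
      (hr v).2 hv (congrArg Fin.val h)
    have h2 : sM (sM (π (r v)) (π (r v))) (sM (π (r v)) (π (r v))) ≠ 0 := by
      rw [← hπm, ← hπm]
      exact fun h => h1 (hπi (h.trans hπ0.symm))
    rcases syl_order_eight h2 with h | h | h <;> simp [L, h]
  let u := L (r 1); let v := L (r 2); let w := L (r 4)
  have hlin : ∀ a, L a = (if (labN a.val).testBit 0 then u else 0) ^^^
      (if (labN a.val).testBit 1 then v else 0) ^^^ (if (labN a.val).testBit 2 then w else 0) := by
    intro a
    let e : Bool → Fin 8 → Fin 128 := fun c i => if c then r i else 0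
    have hl0 : labN (0 : Fin 128).val = 0 := by unfold labN; decide +kernel
    have he : ∀ c i, labN (e c i).val = (if c then i.val else 0) ∧ L (e c i) = (if c then L (r i) else 0) := by
      intro c i
      cases c
      · exact ⟨hl0, h0 0 hl0⟩
      · exact ⟨(hr i).1, rfl⟩
    set c := sM (sM (e ((labN a.val).testBit 0) 1) (e ((labN a.val).testBit 1) 2))
      (e ((labN a.val).testBit 2) 4) with hc
    have hlc : labN c.val = labN a.val := by
      rw [hc, label_of_mul, label_of_mul, (he _ _).1, (he _ _).1, (he _ _).1]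
      exact (xor_bits ⟨labN a.val, labN_lt a⟩).symm
    rw [← hfac c a hlc, hc, hLm, hLm, (he _ _).2, (he _ _).2, (he _ _).2]
  have hsur : Function.Surjective π := Finite.injective_iff_surjective.mp hπi
  have hne : ∀ i j : Fin 8, i ≠ j → L (r i) ≠ L (r j) := by
    intro i j hij h
    let F : Fin 8 → Fin 8 := fun t => ⟨L (r t), labN_lt _⟩
    have hF : Function.Surjective F := by
      intro t
      obtain ⟨a, ha⟩ := exists_label t.isLt
      obtain ⟨b, rfl⟩ := hsur a
      exact ⟨⟨labN b.val, labN_lt b⟩, Fin.ext ((hfac _ _ (hr _).1).trans ha)⟩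
    exact hij (Finite.injective_iff_surjective.mpr hF (Fin.ext h))
  refine ⟨u, v, w, he8 1 (Or.inl rfl), he8 2 (Or.inr (Or.inl rfl)), he8 4 (Or.inr (Or.inr rfl)),
    hne 1 2 (by decide), hne 1 4 (by decide), hne 2 4 (by decide), fun a b h => ?_⟩
  rw [el128_injective ι (h.symm.trans (hπ a))]
  exact hlin a

include hS in
/-- A normalising element of odd prime power order acting trivially on labels centralises. -/
theorem commute_of_prime_pow {x : G} (hx : x ∈ Subgroup.normalizer ((S : Subgroup G) : Set G))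
    (hs : Sends ι x id) {r j : ℕ} [Fact r.Prime] (hr : ¬ r ∣ 16) (hxr : x ^ r ^ j = 1) :
    ∀ a, x * el128 ι a * x⁻¹ = el128 ι a := by
  choose π hπ using conj_mem_el ι S hS hx
  have hpow : ∀ n a, x ^ n * el128 ι a * (x ^ n)⁻¹ = el128 ι (π^[n] a) := by
    intro n
    induction n with
    | zero => intro a; simp
    | succ n ih => intro a; rw [Function.iterate_succ_apply', ← hπ, ← ih, pow_succ']; group
  have hfix : ∀ v : Fin 8, ∃ a : Fin 128, labN a.val = v.val ∧ π a = a := by
    intro v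
    have hmem : ∀ a : {a : Fin 128 // labN a.val = v.val}, labN (π a.1).val = v.val := fun a => by
      rw [hs a.1 (π a.1) (hπ a.1)]; exact a.2
    have hinj : Function.Injective π := fun a b h => el128_injective ι (by
      have := congrArg (el128 ι) h
      rw [← hπ, ← hπ] at this
      exact mul_left_cancel (mul_right_cancel this))
    let σ : Equiv.Perm {a : Fin 128 // labN a.val = v.val} :=
      Equiv.ofBijective (fun a => ⟨π a.1, hmem a⟩)
        (Finite.injective_iff_bijective.mp fun a b h => Subtype.ext (hinj (congrArg Subtype.val h)))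
    have hσ : σ ^ r ^ j = 1 := by
      refine Equiv.ext fun a => Subtype.ext ?_
      have h1 : ∀ n, ((σ ^ n) a).1 = π^[n] a.1 := by
        intro n
        induction n with
        | zero => rfl
        | succ n ih =>
          rw [Function.iterate_succ_apply', ← ih, pow_succ', Equiv.Perm.mul_apply]
          rfl
      rw [h1, Equiv.Perm.one_apply]
      refine el128_injective ι ?_
      rw [← hpow, hxr]
      group
    have hcard : Fintype.card {a : Fin 128 // labN a.val = v.val} = 16 := by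
      rw [Fintype.card_subtype]; exact syl_label_card v
    obtain ⟨a, ha⟩ := Equiv.Perm.exists_fixed_point_of_prime (p := r) (n := j) (by rwa [hcard]) hσ
    exact ⟨a.1, a.2, congrArg Subtype.val ha⟩
  intro a
  let T : Subgroup G := Subgroup.centralizer ({x} : Set G)
  have hmemT : ∀ b, π b = b → el128 ι b ∈ T := fun b hb =>
    Subgroup.mem_centralizer_singleton_iff.mpr (by
      have := hπ b
      rw [hb, mul_inv_eq_iff_eq_mul] at this
      exact this.symm)
  have htop : Subgroup.closure {y : ↥(S : Subgroup G) | (y : G) ∈ T} = ⊤ := by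
    refine PGroup.closure_eq_top_of_sup_frattini (eq_top_iff.2 fun y _ => ?_)
    obtain ⟨b, hb⟩ := (mem_S ι S hS).1 y.2
    obtain ⟨c, hc, hcf⟩ := hfix ⟨labN b.val, labN_lt b⟩
    obtain ⟨i, hi, hi'⟩ := inv_el128 ι S hS c
    have hlab0 : labN (sM i b).val = 0 := by
      have h1 := (syl_elem c.isLt).2.2.1
      have h2 := (syl_mul c.isLt i.isLt).2.1
      rw [hi', h1] at h2
      rw [label_of_mul, hi']
      have h0 : labN 0 = 0 := by unfold labN; decide +kernel
      rw [h0] at h2
      simp only at hc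
      rw [← hc, Nat.xor_comm]
      exact h2.symm
    obtain ⟨p, hp, q, hq, hpq⟩ := (syl_elem (sM i b).isLt).2.2.2.2.2.2.2.2 hlab0
    have hy : y = ⟨el128 ι c, el128_mem ι S hS c⟩ *
        (⟨el128 ι ⟨p, hp⟩, el128_mem ι S hS _⟩ ^ 2 * ⟨el128 ι ⟨q, hq⟩, el128_mem ι S hS _⟩ ^ 2) := by
      refine Subtype.ext ?_
      simp only [Subgroup.coe_mul, SubgroupClass.coe_pow, pow_two, el128_mul]
      rw [show sM (sM ⟨p, hp⟩ ⟨p, hp⟩) (sM ⟨q, hq⟩ ⟨q, hq⟩) = sM i b from Fin.ext hpq, ← el128_mul,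
        ← el128_mul, hi, mul_inv_cancel_left, hb]
    rw [hy]
    refine Subgroup.mul_mem_sup (Subgroup.subset_closure (hmemT c hcf)) ?_
    exact Subgroup.mul_mem _ (PGroup.pow_mem_frattini S.2 _) (PGroup.pow_mem_frattini S.2 _)
  have h1 : Subgroup.closure {z : ↥(S : Subgroup G) | (z : G) ∈ T} ≤ T.subgroupOf (S : Subgroup G) :=
    (Subgroup.closure_le _).2 fun z hz => hz
  have h2 : el128 ι a ∈ T :=
    h1 (htop.ge (Subgroup.mem_top (⟨_, el128_mem ι S hS a⟩ : ↥(S : Subgroup G))))
  rw [Subgroup.mem_centralizer_singleton_iff] at h2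
  rw [mul_inv_eq_iff_eq_mul, h2]

include hS in
/-- A normalising element of odd order acting trivially on labels centralises. -/
theorem commute_of_odd {x : G} (hx : x ∈ Subgroup.normalizer ((S : Subgroup G) : Set G))
    (hs : Sends ι x id) (hodd : Odd (orderOf x)) : x ∈ Subgroup.centralizer ((S : Subgroup G) : Set G) := by
  have hid : ∀ n, Sends ι (x ^ n) id := fun n => by
    have := sends_pow ι S hS hs hx n
    rwa [Function.iterate_id] at this
  set C := Subgroup.centralizer ((S : Subgroup G) : Set G)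
  suffices h : orderOf x ∣ Nat.card ↥(Subgroup.zpowers x ⊓ C) by
    have h2 : Subgroup.zpowers x ⊓ C = Subgroup.zpowers x := Subgroup.eq_of_le_of_card_ge inf_le_left
      (by rw [Nat.card_zpowers]; exact Nat.le_of_dvd Nat.card_pos h)
    exact (Subgroup.mem_inf.1 (h2.ge (Subgroup.mem_zpowers x))).2
  refine (Nat.dvd_iff_prime_pow_dvd_dvd _ _).2 fun r k hr hk => ?_
  rcases Nat.eq_zero_or_pos k with rfl | hk0
  · simp
  have := Fact.mk hr
  have hr2 : ¬ r ∣ 16 := fun h => by
    have h2 : r = 2 := (Nat.prime_dvd_prime_iff_eq hr Nat.prime_two).1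
      (hr.dvd_of_dvd_pow (show r ∣ 2 ^ 4 from h))
    subst h2
    exact (Nat.not_even_iff_odd.2 hodd) (even_iff_two_dvd.2 ((dvd_pow_self 2 hk0.ne').trans hk))
  set u := x ^ (orderOf x / r ^ k) with hu
  have hord : orderOf u = r ^ k := by
    rw [hu, orderOf_pow_of_dvd (Nat.div_pos (Nat.le_of_dvd (orderOf_pos x) hk) (Nat.pow_pos hr.pos)).ne'
      (Nat.div_dvd_of_dvd hk), Nat.div_div_self hk (orderOf_pos x).ne']
  have hc := commute_of_prime_pow ι S hS (Subgroup.pow_mem _ hx _) (hid _) hr2 (j := k)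
    (show u ^ r ^ k = 1 by rw [← hord, pow_orderOf_eq_one])
  rw [← hord, ← Nat.card_zpowers u]
  refine Subgroup.card_dvd_of_le (Subgroup.zpowers_le.2 ⟨Subgroup.pow_mem _ (Subgroup.mem_zpowers x) _, ?_⟩)
  refine Subgroup.mem_centralizer_iff.2 fun y hy => ?_
  obtain ⟨a, rfl⟩ := (mem_S ι S hS).1 hy
  exact (mul_inv_eq_iff_eq_mul.1 (hc a)).symm

include hS in
/-- A normalising element acting trivially on labels acts as an element of the Sylow subgroup. -/
theorem exists_inner {x : G} (hx : x ∈ Subgroup.normalizer ((S : Subgroup G) : Set G))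
    (hs : Sends ι x id) :
    ∃ s ∈ (S : Subgroup G), ∀ y ∈ (S : Subgroup G), x * y * x⁻¹ = s * y * s⁻¹ := by
  obtain ⟨k, n, hn, hcard⟩ := Nat.exists_eq_pow_mul_and_not_dvd (orderOf_pos x).ne' 2 (by norm_num)
  have hcop : Nat.Coprime n (2 ^ k) :=
    ((Nat.coprime_comm.mp (Nat.prime_two.coprime_iff_not_dvd.mpr hn))).pow_right k
  obtain ⟨u, v, huv⟩ := (Nat.Coprime.isCoprime hcop : IsCoprime (n : ℤ) ((2 ^ k : ℕ) : ℤ))
  have hnS : x ^ n ∈ (S : Subgroup G) := by
    have hp : IsPGroup 2 (Subgroup.zpowers (x ^ n)) := by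
      have h1 : (x ^ n) ^ 2 ^ k = 1 := by rw [← pow_mul, mul_comm, ← hcard, pow_orderOf_eq_one]
      obtain ⟨j, -, hj⟩ := (Nat.dvd_prime_pow Nat.prime_two).mp (orderOf_dvd_of_pow_eq_one h1)
      exact IsPGroup.of_card (n := j) (by rw [Nat.card_zpowers, hj])
    have hsup : IsPGroup 2 (Subgroup.zpowers (x ^ n) ⊔ (S : Subgroup G) : Subgroup G) :=
      hp.to_sup_of_normal_right' S.2
        (Subgroup.zpowers_le.2 (Subgroup.pow_mem _ hx n))
    rw [← S.3 hsup le_sup_right]
    exact le_sup_left (b := (S : Subgroup G)) (Subgroup.mem_zpowers _)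
  have hkC : x ^ (2 ^ k) ∈ Subgroup.centralizer ((S : Subgroup G) : Set G) := by
    refine commute_of_odd ι S hS (Subgroup.pow_mem _ hx _) ?_ ?_
    · have := sends_pow ι S hS hs hx (2 ^ k)
      rwa [Function.iterate_id] at this
    · rw [orderOf_pow_of_dvd (by positivity) ⟨n, hcard⟩, hcard, Nat.mul_div_cancel_left _ (by positivity)]
      exact Nat.not_even_iff_odd.1 fun h => hn (even_iff_two_dvd.1 h)
  refine ⟨(x ^ n) ^ u, Subgroup.zpow_mem _ hnS u, fun y hy => ?_⟩
  have hx' : x = (x ^ n) ^ u * (x ^ (2 ^ k)) ^ v := by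
    rw [← zpow_natCast, ← zpow_natCast x (2 ^ k), ← zpow_mul, ← zpow_mul, ← zpow_add,
      mul_comm (n : ℤ), mul_comm ((2 ^ k : ℕ) : ℤ), huv, zpow_one]
  have hy' := Subgroup.mem_centralizer_iff.1 (Subgroup.zpow_mem _ hkC v) y hy
  conv_lhs => rw [hx']
  calc (x ^ n) ^ u * (x ^ 2 ^ k) ^ v * y * ((x ^ n) ^ u * (x ^ 2 ^ k) ^ v)⁻¹
      = (x ^ n) ^ u * ((x ^ 2 ^ k) ^ v * y) * ((x ^ 2 ^ k) ^ v)⁻¹ * ((x ^ n) ^ u)⁻¹ := by group
    _ = _ := by rw [← hy']; group

/-- The core of order 32 as a subgroup. -/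
noncomputable def core32 : Subgroup G where
  carrier := {x | ∃ a : Fin 128, inCore a.val = true ∧ el128 ι a = x}
  one_mem' := ⟨0, norm_facts.2.2.2.2.2.2.1, el128_zero ι⟩
  mul_mem' := by
    rintro _ _ ⟨a, ha, rfl⟩ ⟨b, hb, rfl⟩
    exact ⟨sM a b, ((syl_core a.isLt ha).2 b.val b.isLt).2 hb, (el128_mul ι a b).symm⟩
  inv_mem' := by
    rintro _ ⟨a, ha, rfl⟩
    refine ⟨⟨iN a.val, (syl_elem a.isLt).2.1⟩, (syl_core a.isLt ha).1,
      (inv_eq_of_mul_eq_one_right ?_).symm⟩
    rw [el128_mul, ← el128_zero ι]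
    exact congrArg _ (Fin.ext (syl_elem a.isLt).2.2.1)

theorem mem_normalizer_of_image {R : Subgroup G} {g : G} (h : ∀ x ∈ R, g * x * g⁻¹ ∈ R) :
    g ∈ Subgroup.normalizer (R : Set G) := by
  have hmap : R.map (MulAut.conj g).toMonoidHom = R := by
    refine Subgroup.eq_of_le_of_card_ge (by rintro _ ⟨x, hx, rfl⟩; exact h x hx) ?_
    rw [Subgroup.card_map_of_injective (MulAut.conj g).injective]
  exact Subgroup.mem_normalizer_iff_map_conj_eq.mpr hmap

include hS in
theorem isSimple : (groupFusionSystem (S : Subgroup G)).IsSimple 2 := by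
  have hsat := Fusion.groupFusionSystem_saturated S
  refine Fusion.SimpleTop.isSimple S hsat ?_ (fun T hT => eq_of_steps ι S hS hT) ?_
  · intro h
    have hz := el128_mem ι S hS ⟨sylZ, norm_facts.2.2.2.2.2.2.2.1⟩
    rw [h, Subgroup.mem_bot, ← el128_zero ι] at hz
    exact norm_facts.2.2.2.2.2.2.2.2 (congrArg Fin.val (el128_injective ι hz))
  intro E hE hEsat x hx
  obtain ⟨hbp, htp, hp1, hp2, hg1, hg2, -⟩ := norm_facts
  set R : Subgroup G := core32 ι
  have hRS : R ≤ (S : Subgroup G) := by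
    rintro _ ⟨a, -, rfl⟩; exact el128_mem ι S hS a
  have hSR : (S : Subgroup G) ≤ Subgroup.normalizer (R : Set G) := by
    intro s hs
    obtain ⟨c, rfl⟩ := (mem_S ι S hS).1 hs
    refine mem_normalizer_of_image ?_
    rintro _ ⟨a, ha, rfl⟩
    obtain ⟨i, hi, hi'⟩ := inv_el128 ι S hS c
    refine ⟨sM (sM c a) i, ?_, ?_⟩
    · show inCore (mN (mN c.val a.val) i.val) = true
      rw [hi']; exact ((syl_core a.isLt ha).2 c.val c.isLt).1
    · rw [← el128_mul, ← el128_mul, hi]
  have hcent : (groupFusionSystem (S : Subgroup G)).IsCentric R := by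
    refine Fusion.NormalCentric.isCentric_of_normal S hRS hSR fun y hy hyC => ?_
    obtain ⟨a, rfl⟩ := (mem_S ι S hS).1 hy
    refine ⟨a, syl_centralizer_core fun b hb => el128_injective ι ?_, rfl⟩
    rw [← el128_mul, ← el128_mul]
    exact (Subgroup.mem_centralizer_iff.1 hyC _ ⟨b, hb, rfl⟩).symm
  -- the two factors
  obtain ⟨t₁, ht₁⟩ := exists_mat hg1
  obtain ⟨t₂, ht₂⟩ := exists_mat hg2
  have hmove : ∀ {M : ℕ} {g : G9}, mat g = dec M → ∀ {a b : Fin 128},
      mul9 M (sN a.val) = mul9 (sN b.val) M →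
      ι (g : Q3) * el128 ι a * (ι (g : Q3))⁻¹ = el128 ι b := fun {M g} hg {a b} h => by
    simp only [el128]
    rw [← map_inv, ← map_mul, ← map_mul, conj_of_mat hg h]
  have hpe : ∀ {M k : ℕ} {g : G9}, mat g = dec M → powN M (2 ^ k) = scN 1 →
      ι (g : Q3) ∈ Subgroup.normalizer (R : Set G) → ι (g : Q3) ∈ pElts 2 R := fun {M k g} hg h hN => by
    obtain ⟨j, hj⟩ := pow_two_of_mat hg h
    exact Subgroup.subset_closure ⟨hN, j, by rw [ι.orderOf_eq, hj]⟩
  have hN1 : ι (t₁ : Q3) ∈ Subgroup.normalizer (R : Set G) := by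
    refine mem_normalizer_of_image ?_
    rintro _ ⟨a, ha, rfl⟩
    obtain ⟨p, q, hp, -, he, -⟩ := htp a ha
    exact ⟨p, hp, (hmove ht₁ he).symm⟩
  have hN2 : ι (t₂ : Q3) ∈ Subgroup.normalizer (R : Set G) := by
    refine mem_normalizer_of_image ?_
    rintro _ ⟨a, ha, rfl⟩
    obtain ⟨p, q, -, hq, -, he⟩ := htp a ha
    exact ⟨q, hq, (hmove ht₂ he).symm⟩
  set b := ι ((t₁ * t₂ : G9) : Q3) with hb
  have hbm : mat (t₁ * t₂) = dec bN := by rw [map_mul, ht₁, ht₂, ← dec_mul9]; rfl
  have hbconj : ∀ a : Fin 128, b * el128 ι a * b⁻¹ = el128 ι ⟨_, (hbp a).1⟩ := fun a =>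
    hmove hbm (b := ⟨_, (hbp a).1⟩) (hbp a).2.2
  have hbS : b ∈ Subgroup.normalizer ((S : Subgroup G) : Set G) := by
    refine mem_normalizer_of_image fun y hy => ?_
    obtain ⟨a, rfl⟩ := (mem_S ι S hS).1 hy
    rw [hbconj a]; exact el128_mem ι S hS _
  have hbsend : Sends ι b rot3 := fun a c h => by
    rw [← el128_injective ι ((hbconj a).symm.trans h)]
    exact (hbp a).2.1
  have hbE : EC E (S : Subgroup G) b := by
    have h := Fusion.SimpleTop.pElts_le S hE hRS
      (Subgroup.mul_mem _ (hpe ht₁ hp1 hN1) (hpe ht₂ hp2 hN2))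
    rw [hb, QuotientGroup.mk_mul, map_mul]
    refine Fusion.SimpleTop.ec_up S hE hEsat hcent hRS le_rfl h.1 ?_ h.2
    rw [← map_mul, ← QuotientGroup.mk_mul]
    exact hbS
  -- reduction to an element acting trivially on labels
  obtain ⟨u, v, w, hu, hv, hw, huv, huw, hvw, hs⟩ := exists_sends ι S hS hx
  let A := normalizerPart E (S : Subgroup G) le_rfl
  have hbA : b ∈ A := ⟨hbS, hbE⟩
  rcases label_perms u hu v hv w hw huv huw hvw with ⟨i, hi⟩ | ⟨⟨t, ht⟩, hinv⟩
  · have hid : Sends ι (x * b ^ (3 - i.val)) id := by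
      have h := sends_comp ι S hS hs (sends_pow ι S hS hbsend hbS (3 - i.val))
        (Subgroup.pow_mem _ hbS _)
      intro a c hac
      have h3 : ∀ (k : Fin 3) (l : Fin 8), rot3^[3 - k.val] l.val < 8 ∧
          rot3^[k.val] (rot3^[3 - k.val] l.val) = l.val := by decide +kernel
      have h4 := h3 i ⟨labN a.val, labN_lt a⟩
      rw [h a c hac]
      exact (hi ⟨_, h4.1⟩).trans h4.2
    obtain ⟨s, hsS, hs'⟩ := exists_inner ι S hS
      (Subgroup.mul_mem _ hx (Subgroup.pow_mem _ hbS _)) hid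
    have hk : s * (b ^ (3 - i.val))⁻¹ ∈ A :=
      A.mul_mem ⟨Subgroup.le_normalizer hsS, EC.of_mem E le_rfl hsS⟩ (A.inv_mem (A.pow_mem hbA _))
    refine EC.congr E hk.2 fun y hy => ?_
    set c := b ^ (3 - i.val) with hc
    have hcy : c⁻¹ * y * c ∈ (S : Subgroup G) := by
      have := (conj_mem_iff_of_mem_normalizer (Subgroup.inv_mem _ (Subgroup.pow_mem _ hbS (3 - i.val)))).2 hy
      rwa [inv_inv] at this
    calc x * y * x⁻¹ = x * c * (c⁻¹ * y * c) * (x * c)⁻¹ := by group
      _ = s * (c⁻¹ * y * c) * s⁻¹ := hs' _ hcy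
      _ = _ := by group
  · exfalso
    obtain ⟨k, n, hn, hcard⟩ := Nat.exists_eq_pow_mul_and_not_dvd (orderOf_pos x).ne' 2 (by norm_num)
    have hnS : x ^ n ∈ (S : Subgroup G) := by
      have hp : IsPGroup 2 (Subgroup.zpowers (x ^ n)) := by
        have h1 : (x ^ n) ^ 2 ^ k = 1 := by rw [← pow_mul, mul_comm, ← hcard, pow_orderOf_eq_one]
        obtain ⟨j, -, hj⟩ := (Nat.dvd_prime_pow Nat.prime_two).mp (orderOf_dvd_of_pow_eq_one h1)
        exact IsPGroup.of_card (n := j) (by rw [Nat.card_zpowers, hj])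
      have hsup : IsPGroup 2 (Subgroup.zpowers (x ^ n) ⊔ (S : Subgroup G) : Subgroup G) :=
        hp.to_sup_of_normal_right' S.2 (Subgroup.zpowers_le.2 (Subgroup.pow_mem _ hx n))
      rw [← S.3 hsup le_sup_right]
      exact le_sup_left (b := (S : Subgroup G)) (Subgroup.mem_zpowers _)
    obtain ⟨a, ha⟩ := exists_label t.isLt
    obtain ⟨c, hc⟩ := conj_mem_el ι S hS (Subgroup.pow_mem _ hx n) a
    have h1 := sends_of_mem ι S hS hnS a c hc
    have h2 := sends_pow ι S hS hs hx n a c hc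
    set f := fun t : ℕ => (if t.testBit 0 then u else 0) ^^^ (if t.testBit 1 then v else 0) ^^^
      (if t.testBit 2 then w else 0)
    have hit : ∀ m, f^[2 * m + 1] t.val = f t.val := by
      intro m
      induction m with
      | zero => rfl
      | succ m ih =>
        rw [show 2 * (m + 1) + 1 = (2 * m + 1) + 1 + 1 by ring, Function.iterate_succ_apply',
          Function.iterate_succ_apply', ih]
        exact congrArg f (hinv t)
    obtain ⟨m, rfl⟩ : Odd n := Nat.not_even_iff_odd.1 fun h => hn (even_iff_two_dvd.1 h)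
    rw [ha, hit m] at h2
    rw [ha, id_eq] at h1
    exact ht (h2.symm.trans h1)

end Cfsg.Agent.J3
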