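import Cfsg.Agent.Lib.J3.Tables
import Cfsg.Agent.Lib.J3.DataSylow

/-!
# Reading the Sylow table

Accessors for the certified list of a Sylow 2-subgroup and the Boolean checks on it.
-/

set_option autoImplicit false

namespace Cfsg.Agent.J3

open Cfsg.Agent.Presented (force checkBelow allList)

/-- The elements of the Sylow subgroup. -/
noncomputable def sN (a : ℕ) : ℕ := sylData.get 162 a

/-- The product table. -/
noncomputable def mN (a b : ℕ) : ℕ := sylTab.get 8 (128 * a + b)

/-- The coset of an element modulo the squares, three bits. -/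
noncomputable def labN (a : ℕ) : ℕ := sylLab.get 3 a

/-- The table of inverses. -/
def iN (a : ℕ) : ℕ := sylInv.getD a 0

/-- Membership in the core. -/
noncomputable def inCore (a : ℕ) : Bool := List.rec false (fun r _ ih => Nat.beq r a || ih) sylCore

/-- The matrix of the element of the normaliser. -/
noncomputable def bN : ℕ := mul9 sylT1 sylT2

/-- The label permutation of the element of the normaliser. -/
def rot3 (v : ℕ) : ℕ := v / 2 + 4 * (v % 2)

/-- The elements are distinct, lie in the group, meet the scalars trivially. -/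
noncomputable def elemChk (a : ℕ) : Bool :=
  force (sN a) fun h => force (iN a) fun i =>
    Nat.blt h (Nat.pow 2 162) && Nat.blt i 128 && Nat.beq (mN a i) 0 &&
    Nat.blt (sylTr.getD a 0) 23256 && Nat.blt (sylSt.getD a 0) 6480 &&
    Nat.beq (mul9 (trN (sylTr.getD a 0)) (stN (sylSt.getD a 0))) h &&
    !(Nat.beq h (scN 2)) && !(Nat.beq h (scN 3)) &&
    checkBelow (fun b => Nat.beq a b || !(Nat.beq h (sN b))) 8 128 &&
    Nat.blt (labN a) 8 && Nat.blt (sylSqL.getD a 0) 128 && Nat.blt (sylSqR.getD a 0) 128 &&
    (!(Nat.beq (labN a) 0) ||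
      Nat.beq (mN (mN (sylSqL.getD a 0) (sylSqL.getD a 0)) (mN (sylSqR.getD a 0) (sylSqR.getD a 0))) a)

/-- The table is the table. -/
noncomputable def mulChk (k : ℕ) : Bool :=
  force (k / 128) fun a => force (k % 128) fun b => force (mN a b) fun c =>
    Nat.blt c 128 && Nat.beq (labN c) (labN a ^^^ labN b) && Nat.beq (mul9 (sN a) (sN b)) (sN c)

end Cfsg.Agent.J3
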