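import Cfsg.Agent.Lib.J3.Simple
import Cfsg.Agent.Lib.J3.SylowCheck
import Cfsg.Agent.Lib.Fusion.Group
import Cfsg.Agent.Lib.Fusion.SimpleTop
import Cfsg.Agent.Lib.Fusion.NormalCentric
import Cfsg.Agent.Lib.Fusion.SimpleCriterion
import Cfsg.Agent.Lib.PGroup.Basic
import Cfsg.Agent.Lib.PGroup.Frattini

/-!
# The 2-fusion system of J₃ is simple

A certified Sylow 2-subgroup with its table: nontrivial strongly closed subgroups contain the central
involution and hence everything; an element of the normaliser acts, up to an element of the subgroup,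
as a power of a product of two 2-elements normalising the core of order 32.
-/

set_option autoImplicit false
set_option maxHeartbeats 400000
set_option linter.unusedSectionVars false

namespace Cfsg.Agent.J3

open Cfsg Cfsg.FusionSystem Cfsg.Agent.Fusion.GroupSimple
open Cfsg.Agent.G2Four (K4)
open Cfsg.Agent.Presented (checkBelow checkBelow_spec)

attribute [local irreducible] trN stN sN mN labN genN stGen nvN infoScal infoLead
  Cfsg.Agent.Presented.NTree.get

theorem syl_elem {a : ℕ} (ha : a < 128) :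
    sN a < 2 ^ 162 ∧ iN a < 128 ∧ mN a (iN a) = 0 ∧
    InG (dec (sN a)) ∧ sN a ≠ scN 2 ∧ sN a ≠ scN 3 ∧ (∀ b < 128, sN a = sN b → a = b) ∧
    labN a < 8 ∧
    (labN a = 0 → ∃ c < 128, ∃ d < 128, mN (mN c c) (mN d d) = a) := by
  have h := checkBelow_spec elemChk_all a ha
  simp only [elemChk, Presented.force_eq, Bool.and_eq_true, Bool.or_eq_true, Bool.not_eq_true',
    Nat.blt_eq, Nat.beq_eq] at h
  obtain ⟨⟨⟨⟨⟨⟨⟨⟨⟨⟨⟨⟨c1, c2⟩, c3⟩, c4⟩, c5⟩, c6⟩, c7⟩, c8⟩, c9⟩, c10⟩, c11⟩, c12⟩, c13⟩ := h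
  refine ⟨c1, c2, c3, ?_, Nat.ne_of_beq_eq_false c7, Nat.ne_of_beq_eq_false c8, fun b hb he => ?_,
    c10, fun h0 => ⟨_, c11, _, c12, ?_⟩⟩
  · rw [← c6, dec_mul9]; exact (inG_tr c4).mul (inG_st c5)
  · have h' := checkBelow_spec c9 b hb
    simp only [Bool.or_eq_true, Bool.not_eq_true', Nat.beq_eq] at h'
    exact h'.resolve_right fun h => Nat.ne_of_beq_eq_false h he
  · exact c13.resolve_left fun h => Nat.ne_of_beq_eq_false h h0

theorem syl_mul {a b : ℕ} (ha : a < 128) (hb : b < 128) :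
    mN a b < 128 ∧ labN (mN a b) = labN a ^^^ labN b ∧ dec (sN a) * dec (sN b) = dec (sN (mN a b)) := by
  have h := checkBelow_spec mulChk_all (128 * a + b) (by omega)
  simp only [mulChk, Presented.force_eq, show (128 * a + b) / 128 = a by omega,
    show (128 * a + b) % 128 = b by omega, Bool.and_eq_true, Nat.blt_eq, Nat.beq_eq] at h
  exact ⟨h.1.1, h.1.2, by rw [← dec_mul9, h.2]⟩

/-- The element of `G9` with a given label. -/
noncomputable def syl9 (a : Fin 128) : G9 := (exists_mat (syl_elem a.isLt).2.2.2.1).choose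

theorem mat_syl9 (a : Fin 128) : mat (syl9 a) = dec (sN a.val) :=
  (exists_mat (syl_elem a.isLt).2.2.2.1).choose_spec

/-- The product in the table. -/
noncomputable def sM (a b : Fin 128) : Fin 128 := ⟨mN a.val b.val, (syl_mul a.isLt b.isLt).1⟩

/-- The element of the simple group with a given label. -/
noncomputable def sylQ (a : Fin 128) : Q3 := QuotientGroup.mk (syl9 a)

theorem syl9_mul (a b : Fin 128) : syl9 a * syl9 b = syl9 (sM a b) :=
  mat_injective (by rw [map_mul, mat_syl9, mat_syl9, mat_syl9]; exact (syl_mul a.isLt b.isLt).2.2)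

theorem syl9_zero : syl9 0 = 1 :=
  mat_injective (by rw [mat_syl9, map_one, Fin.val_zero, sN_zero, dec_one])

theorem sylQ_mul (a b : Fin 128) : sylQ a * sylQ b = sylQ (sM a b) := by
  rw [sylQ, sylQ, sylQ, ← QuotientGroup.mk_mul, syl9_mul]

theorem sylQ_injective : Function.Injective sylQ := by
  intro a b h
  have hz := QuotientGroup.eq.1 h
  let i : Fin 128 := ⟨iN a.val, (syl_elem a.isLt).2.1⟩
  have hi : (syl9 a)⁻¹ = syl9 i := by
    refine inv_eq_of_mul_eq_one_right ?_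
    rw [syl9_mul, ← syl9_zero]
    exact congrArg syl9 (Fin.ext (syl_elem a.isLt).2.2.1)
  rw [hi, syl9_mul] at hz
  set k := sM i b with hk
  obtain ⟨c, hc⟩ := scalar_of_center hz
  have hc0 : c ≠ 0 := fun e => mat_ne_zero _ (by rw [hc, e, zero_smul])
  obtain ⟨t, ht1, ht⟩ := (show ∀ d : K4, d ≠ 0 → ∃ t : Fin 4, 0 < t.val ∧ scK t.val = d by
    decide +kernel) c hc0
  have hlt : scN t.val < 2 ^ 162 := (show ∀ t : Fin 4, scN t.val < 2 ^ 162 by decide +kernel) t
  obtain ⟨k1, -, -, -, k2, k3, k4, -⟩ := syl_elem k.isLt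
  have e : sN k.val = scN t.val := dec_inj k1 hlt (by
    rw [← mat_syl9, hc, dec_scN ht1 t.isLt, ht])
  have ht4 := t.isLt
  interval_cases hv : t.val
  · have hk0 : k = 0 := Fin.ext (k4 0 (by norm_num) (by rw [e, sN_zero]))
    have : (syl9 a)⁻¹ * syl9 b = 1 := by rw [hi, syl9_mul, ← hk, hk0, syl9_zero]
    have hab : syl9 a = syl9 b := inv_mul_eq_one.1 this
    have h1 := congrArg mat hab
    rw [mat_syl9, mat_syl9] at h1
    exact Fin.ext ((syl_elem a.isLt).2.2.2.2.2.2.1 b b.isLt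
      (dec_inj (syl_elem a.isLt).1 (syl_elem b.isLt).1 h1))
  · exact absurd e k2
  · exact absurd e k3

/-- The Sylow subgroup of the simple group. -/
noncomputable def sylP : Subgroup Q3 where
  carrier := Set.range sylQ
  one_mem' := ⟨0, by rw [sylQ, syl9_zero]; rfl⟩
  mul_mem' := by
    rintro _ _ ⟨a, rfl⟩ ⟨b, rfl⟩
    exact ⟨sM a b, (sylQ_mul a b).symm⟩
  inv_mem' := by
    rintro _ ⟨a, rfl⟩
    refine ⟨⟨iN a.val, (syl_elem a.isLt).2.1⟩, (inv_eq_of_mul_eq_one_right ?_).symm⟩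
    rw [sylQ_mul, show sM a ⟨iN a.val, (syl_elem a.isLt).2.1⟩ = 0 from Fin.ext ((syl_elem a.isLt).2.2.1),
      sylQ, syl9_zero]
    rfl

theorem card_sylP : Nat.card sylP = 128 := by
  rw [← Nat.card_fin 128]
  exact (Nat.card_congr (Equiv.ofInjective _ sylQ_injective)).symm

/-- The image in the simple group of an element given by its matrix. -/
theorem conj_of_mat {M : ℕ} {g : G9} (hg : mat g = dec M) {a b : Fin 128}
    (h : mul9 M (sN a.val) = mul9 (sN b.val) M) :
    (g : Q3) * sylQ a * (g : Q3)⁻¹ = sylQ b := by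
  rw [mul_inv_eq_iff_eq_mul, sylQ, sylQ, ← QuotientGroup.mk_mul, ← QuotientGroup.mk_mul]
  refine congrArg _ (mat_injective ?_)
  rw [map_mul, map_mul, hg, mat_syl9, mat_syl9, ← dec_mul9, ← dec_mul9, h]

theorem pow_two_of_mat {M k : ℕ} {g : G9} (hg : mat g = dec M) (h : powN M (2 ^ k) = scN 1) :
    ∃ j : ℕ, orderOf (g : Q3) = 2 ^ j := by
  have h1 : g ^ (2 ^ k) = 1 := mat_injective (by rw [map_pow, hg, ← dec_powN, h, dec_one, map_one])
  have h2 : (g : Q3) ^ (2 ^ k) = 1 := by rw [← QuotientGroup.mk_pow, h1]; rfl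
  obtain ⟨j, -, hj⟩ := (Nat.dvd_prime_pow Nat.prime_two).mp (orderOf_dvd_of_pow_eq_one h2)
  exact ⟨j, hj⟩

theorem syl_core {a : ℕ} (ha : a < 128) (h : inCore a = true) :
    inCore (iN a) = true ∧ ∀ b < 128, inCore (mN (mN b a) (iN b)) = true ∧
      (inCore b = true → inCore (mN a b) = true) := by
  have h1 := checkBelow_spec structChk_all a ha
  simp only [structChk, Bool.and_eq_true] at h1
  obtain ⟨⟨-, h2⟩, -⟩ := h1
  rw [h, Bool.not_true, Bool.false_or, Bool.and_eq_true] at h2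
  refine ⟨h2.1, fun b hb => ?_⟩
  have h3 := checkBelow_spec h2.2 b hb
  rw [Bool.and_eq_true] at h3
  exact ⟨h3.1, fun hb' => by simpa [hb'] using h3.2⟩

theorem checkBelow_false {f : ℕ → Bool} {d n : ℕ} (h : checkBelow f d n = false) (hn : n < 2 ^ d) :
    ∃ i < n, f i = false := by
  have key : ∀ d lo, (∀ i, lo ≤ i → i < n → f i = true) → Presented.checkBlock f n d lo = true := by
    intro d
    induction d with
    | zero =>
      intro lo hall
      rw [Presented.checkBlock_zero]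
      by_cases hl : Nat.blt lo n = true
      · rw [if_pos hl]; exact hall lo le_rfl (by rwa [Nat.blt_eq] at hl)
      · rw [if_neg hl]
    | succ d ih =>
      intro lo hall
      rw [Presented.checkBlock_succ, ih lo hall, ih _ fun i hi => hall i (le_trans (Nat.le_add_right _ _) hi)]; rfl
  by_contra hcon
  push Not at hcon
  rw [Presented.checkBelow_of_block (by rwa [Nat.blt_eq]) (key d 0 fun i _ hi => by
    simpa using hcon i hi)] at h
  exact Bool.noConfusion h

theorem syl_center {a : Fin 128} (h : ∀ b, sM a b = sM b a) : a.val = 0 ∨ a.val = sylZ := by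
  have h1 := checkBelow_spec structChk_all a.val a.isLt
  simp only [structChk, Bool.and_eq_true, Bool.or_eq_true, Bool.not_eq_true', Nat.beq_eq] at h1
  rcases h1.1.1.1 with (h2 | h2) | h2
  · obtain ⟨b, hb, hb'⟩ := checkBelow_false h2 (by norm_num)
    exact absurd (congrArg Fin.val (h ⟨b, hb⟩)) (Nat.ne_of_beq_eq_false hb')
  · exact Or.inl h2
  · exact Or.inr h2

theorem syl_centralizer_core {a : Fin 128} (h : ∀ b : Fin 128, inCore b.val = true → sM a b = sM b a) :
    inCore a.val = true := by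
  have h1 := checkBelow_spec structChk_all a.val a.isLt
  simp only [structChk, Bool.and_eq_true, Bool.or_eq_true, Bool.not_eq_true', Nat.beq_eq] at h1
  rcases h1.1.1.2 with h2 | h2
  · obtain ⟨b, hb, hb'⟩ := checkBelow_false h2 (by norm_num)
    rw [Bool.or_eq_false_iff, Bool.not_eq_false'] at hb'
    exact absurd (congrArg Fin.val (h ⟨b, hb⟩ hb'.1)) (Nat.ne_of_beq_eq_false hb'.2)
  · exact h2

theorem syl_order_eight {a : Fin 128} (h : sM (sM a a) (sM a a) ≠ 0) :
    labN a.val = 1 ∨ labN a.val = 2 ∨ labN a.val = 4 := by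
  have h1 := checkBelow_spec structChk_all a.val a.isLt
  simp only [structChk, Bool.and_eq_true, Bool.or_eq_true, Nat.beq_eq] at h1
  rcases h1.2 with ((h2 | h2) | h2) | h2
  · exact absurd (Fin.ext h2) h
  · exact Or.inl h2
  · exact Or.inr (Or.inl h2)
  · exact Or.inr (Or.inr h2)

theorem syl_reps : ∀ v : Fin 8, ∃ a : Fin 128, labN a.val = v.val ∧
    ((v.val = 1 ∨ v.val = 2 ∨ v.val = 4) → mN (mN a.val a.val) (mN a.val a.val) ≠ 0) := by
  unfold labN mN
  decide +kernel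

theorem syl_label_card : ∀ v : Fin 8,
    (Finset.univ.filter fun a : Fin 128 => labN a.val = v.val).card = 16 := by
  unfold labN
  decide +kernel

/-- A permutation of the three labels is a power of the rotation or a nontrivial involution. -/
theorem label_perms : ∀ x ∈ [1, 2, 4], ∀ y ∈ [1, 2, 4], ∀ w ∈ [1, 2, 4], x ≠ y → x ≠ w → y ≠ w →
    let f : ℕ → ℕ := fun v => (if v.testBit 0 then x else 0) ^^^ (if v.testBit 1 then y else 0) ^^^
      (if v.testBit 2 then w else 0)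
    (∃ i : Fin 3, ∀ v : Fin 8, f v.val = rot3^[i.val] v.val) ∨
      ((∃ v : Fin 8, f v.val ≠ v.val) ∧ ∀ v : Fin 8, f (f v.val) = v.val) := by
  decide +kernel

theorem syl_steps_aux {P : Fin 128 → Prop} (hconj : ∀ {a b : Fin 128} {g : G9}, P a →
      (g : Q3) * sylQ a * (g : Q3)⁻¹ = sylQ b → P b) :
    ∀ (l : List (ℕ × ℕ × ℕ × ℕ × ℕ)) (known : List ℕ),
      (∀ k ∈ known, ∃ a : Fin 128, a.val = k ∧ P a) → stepChk l known = true →
      ∀ v < 8, ∃ a b c : Fin 128, P a ∧ P b ∧ P c ∧ labN a.val ^^^ labN b.val ^^^ labN c.val = v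
  | [], known, hk, h, v, hv => by
    have h' := checkBelow_spec h v hv
    simp only [List.any_eq_true, Nat.beq_eq] at h'
    obtain ⟨a, ha, b, hb, c, hc, he⟩ := h'
    obtain ⟨a', rfl, hPa⟩ := hk a ha
    obtain ⟨b', rfl, hPb⟩ := hk b hb
    obtain ⟨c', rfl, hPc⟩ := hk c hc
    exact ⟨a', b', c', hPa, hPb, hPc, he⟩
  | (y, i, j, g, x) :: l, known, hk, h, v, hv => by
    change (Nat.blt y 128 && Nat.blt i 23256 && Nat.blt j 6480 && known.contains x &&
        Nat.beq (mul9 (trN i) (stN j)) g && Nat.beq (mul9 g (sN x)) (mul9 (sN y) g) &&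
        stepChk l (y :: known)) = true at h
    simp only [Bool.and_eq_true, Nat.blt_eq, Nat.beq_eq, List.contains_iff_mem] at h
    obtain ⟨⟨⟨⟨⟨⟨hy, hi⟩, hj⟩, hx⟩, hg⟩, hc⟩, hl⟩ := h
    obtain ⟨x', rfl, hPx⟩ := hk x hx
    obtain ⟨g', hg'⟩ := exists_mat ((inG_tr hi).mul (inG_st hj))
    rw [← dec_mul9, hg] at hg'
    refine syl_steps_aux hconj l (y :: known) (fun k hk' => ?_) hl v hv
    rcases List.mem_cons.1 hk' with rfl | hk'
    · exact ⟨⟨k, hy⟩, rfl, hconj hPx (conj_of_mat hg' (a := x') (b := ⟨k, hy⟩) hc)⟩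
    · exact hk k hk'

theorem norm_facts :
    (∀ a : Fin 128, sylBPerm.getD a.val 0 < 128 ∧ labN (sylBPerm.getD a.val 0) = rot3 (labN a.val) ∧
      mul9 bN (sN a.val) = mul9 (sN (sylBPerm.getD a.val 0)) bN) ∧
    (∀ a : Fin 128, inCore a.val = true → ∃ p q : Fin 128, inCore p.val = true ∧ inCore q.val = true ∧
      mul9 sylT1 (sN a.val) = mul9 (sN p.val) sylT1 ∧ mul9 sylT2 (sN a.val) = mul9 (sN q.val) sylT2) ∧
    powN sylT1 (2 ^ sylT1Exp) = scN 1 ∧ powN sylT2 (2 ^ sylT2Exp) = scN 1 ∧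
    InG (dec sylT1) ∧ InG (dec sylT2) ∧ inCore 0 = true ∧ sylZ < 128 ∧ sylZ ≠ 0 := by
  have h := normChk_eq
  simp only [normChk, Bool.and_eq_true, Bool.not_eq_true', Nat.blt_eq, Nat.beq_eq] at h
  obtain ⟨⟨⟨⟨⟨⟨⟨⟨⟨⟨⟨⟨⟨h1, h2⟩, h3⟩, h4⟩, h5⟩, h6⟩, h7⟩, h8⟩, h9⟩, h10⟩, h11⟩, h12⟩, h13⟩, h14⟩ := h
  refine ⟨fun a => ?_, fun a ha => ?_, h4, h5, ?_, ?_, h12, h13, Nat.ne_of_beq_eq_false h14⟩
  · have h' := checkBelow_spec h1 a.val a.isLt
    simp only [Presented.force_eq, Bool.and_eq_true, Nat.blt_eq, Nat.beq_eq] at h'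
    exact ⟨h'.1.1, h'.1.2, h'.2⟩
  · have h' := checkBelow_spec h3 a.val a.isLt
    rw [ha, Bool.not_true, Bool.false_or, Bool.not_eq_true'] at h'
    obtain ⟨k, hk, hk'⟩ := checkBelow_false h' (by norm_num)
    rw [Bool.not_eq_false', Nat.beq_eq] at hk'
    have h'' := checkBelow_spec h2 k hk
    simp only [Presented.force_eq, Bool.and_eq_true, Nat.blt_eq, Nat.beq_eq] at h''
    obtain ⟨⟨⟨⟨⟨⟨⟨-, -⟩, hp⟩, hp'⟩, hq⟩, hq'⟩, he⟩, he'⟩ := h''
    rw [hk'] at he he'
    exact ⟨⟨_, hp⟩, ⟨_, hq⟩, hp', hq', he, he'⟩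
  · rw [← h10, dec_mul9]; exact (inG_tr h6).mul (inG_st h7)
  · rw [← h11, dec_mul9]; exact (inG_tr h8).mul (inG_st h9)

section

variable {G : Type*} [Group G] [Finite G] (ι : Q3 ≃* G) (S : Sylow 2 G)
  (hS : (S : Subgroup G) = sylP.map ι.toMonoidHom)

/-- The element of `G` with a given label. -/
noncomputable def el128 (a : Fin 128) : G := ι (sylQ a)

theorem el128_mul (a b : Fin 128) : el128 ι a * el128 ι b = el128 ι (sM a b) := by
  rw [el128, el128, el128, ← map_mul, sylQ_mul]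

theorem el128_injective : Function.Injective (el128 ι) := ι.injective.comp sylQ_injective

theorem el128_zero : el128 ι 0 = 1 := by
  rw [el128, sylQ, syl9_zero, QuotientGroup.mk_one, map_one]

include hS in
theorem mem_S {x : G} : x ∈ (S : Subgroup G) ↔ ∃ a, el128 ι a = x := by
  rw [hS]
  constructor
  · rintro ⟨_, ⟨a, rfl⟩, rfl⟩; exact ⟨a, rfl⟩
  · rintro ⟨a, rfl⟩; exact ⟨sylQ a, ⟨a, rfl⟩, rfl⟩

include hS in
theorem el128_mem (a : Fin 128) : el128 ι a ∈ (S : Subgroup G) := (mem_S ι S hS).2 ⟨a, rfl⟩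

include hS in
theorem inv_el128 (a : Fin 128) : ∃ b : Fin 128, el128 ι b = (el128 ι a)⁻¹ ∧ b.val = iN a.val := by
  refine ⟨⟨iN a.val, (syl_elem a.isLt).2.1⟩, (inv_eq_of_mul_eq_one_right ?_).symm, rfl⟩
  rw [el128_mul, ← el128_zero ι]
  exact congrArg _ (Fin.ext (syl_elem a.isLt).2.2.1)

include hS in
theorem eq_of_steps {T : Subgroup G} (hT : (groupFusionSystem (S : Subgroup G)).StronglyClosed T) :
    T = ⊥ ∨ T = (S : Subgroup G) := by
  by_cases hT1 : T = ⊥
  · exact Or.inl hT1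
  refine Or.inr ?_
  obtain ⟨hTS, hTc⟩ := Fusion.stronglyClosed_iff.1 hT
  have hcl : ∀ x ∈ T, ∀ h : G, h * x * h⁻¹ ∈ (S : Subgroup G) → h * x * h⁻¹ ∈ T := by
    intro x hx h hh
    have hle : Subgroup.zpowers x ≤ (S : Subgroup G) := Subgroup.zpowers_le.2 (hTS hx)
    have hφ : conjHom (Subgroup.zpowers x) h ∈
        (groupFusionSystem (S : Subgroup G)).Hom (Subgroup.zpowers x) := by
      refine ⟨hle, ?_, h, fun y => rfl⟩
      rintro ⟨_, m, rfl⟩
      change h * x ^ m * h⁻¹ ∈ (S : Subgroup G)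
      rw [← conj_zpow]
      exact Subgroup.zpow_mem _ hh m
    exact hTc _ _ hφ ⟨x, Subgroup.mem_zpowers x⟩ hx
  have hnormal : (T.subgroupOf (S : Subgroup G)).Normal := ⟨fun x hx s =>
    hcl _ hx s (Subgroup.mul_mem _ (Subgroup.mul_mem _ s.2 x.2) (Subgroup.inv_mem _ s.2))⟩
  have hne' : T.subgroupOf (S : Subgroup G) ≠ ⊥ := by
    intro h
    rw [Subgroup.subgroupOf_eq_bot, disjoint_iff, inf_eq_left.2 hTS] at h
    exact hT1 h
  have hinf := PGroup.inf_center_ne_bot S.isPGroup' _ hne'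
  obtain ⟨x, hx, hx1⟩ := (Subgroup.bot_or_exists_ne_one _).resolve_left hinf
  obtain ⟨hxT, hxZ⟩ := Subgroup.mem_inf.1 hx
  rw [Subgroup.mem_center_iff] at hxZ
  obtain ⟨a, ha⟩ := (mem_S ι S hS).1 x.2
  have haz : a.val = sylZ := by
    refine (syl_center fun b => el128_injective ι ?_).resolve_left fun h0 => hx1 (Subtype.ext ?_)
    · have h1 := congrArg Subtype.val (hxZ ⟨el128 ι b, el128_mem ι S hS b⟩)
      simp only [Subgroup.coe_mul, ← ha] at h1
      rw [← el128_mul, ← el128_mul, h1]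
    · rw [← ha, show a = 0 from Fin.ext h0, el128_zero]; rfl
  have haT : el128 ι a ∈ T := by rw [ha]; exact hxT
  have h0T : el128 ι 0 ∈ T := by rw [el128_zero]; exact T.one_mem
  have hsteps := syl_steps_aux (P := fun c => el128 ι c ∈ T) (fun {c d g} hc he => by
      have h1 : ι (g : Q3) * el128 ι c * (ι (g : Q3))⁻¹ = el128 ι d := by
        rw [el128, el128, ← map_inv, ← map_mul, ← map_mul, he]
      rw [← h1]
      exact hcl _ hc _ (by rw [h1]; exact el128_mem ι S hS d))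
    sylSteps [sylZ, 0] (by
      rintro k hk
      simp only [List.mem_cons, List.not_mem_nil, or_false] at hk
      rcases hk with rfl | rfl
      · exact ⟨a, haz, haT⟩
      · exact ⟨0, rfl, h0T⟩) stepChk_eq
  have htop : Subgroup.closure {y : ↥(S : Subgroup G) | (y : G) ∈ T} = ⊤ := by
    refine PGroup.closure_eq_top_of_sup_frattini (eq_top_iff.2 fun y _ => ?_)
    obtain ⟨b, hb⟩ := (mem_S ι S hS).1 y.2
    obtain ⟨c₁, c₂, c₃, h₁, h₂, h₃, he⟩ := hsteps (labN b.val) (syl_elem b.isLt).2.2.2.2.2.2.2.1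
    set w : Fin 128 := sM (sM c₁ c₂) c₃ with hw
    have hwT : el128 ι w ∈ T := by
      rw [hw, ← el128_mul, ← el128_mul]; exact T.mul_mem (T.mul_mem h₁ h₂) h₃
    have hwlab : labN w.val = labN b.val := by
      rw [hw]
      show labN (mN (mN c₁.val c₂.val) c₃.val) = _
      rw [(syl_mul (syl_mul c₁.isLt c₂.isLt).1 c₃.isLt).2.1, (syl_mul c₁.isLt c₂.isLt).2.1, he]
    obtain ⟨i, hi, hi'⟩ := inv_el128 ι S hS w
    have hlab0 : labN (sM i b).val = 0 := by
      have h1 := (syl_elem w.isLt).2.2.1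
      have h2 := (syl_mul w.isLt i.isLt).2.1
      rw [hi', h1] at h2
      rw [show (sM i b).val = mN i.val b.val from rfl, (syl_mul i.isLt b.isLt).2.1, hi']
      have h0 : labN 0 = 0 := by unfold labN; decide +kernel
      rw [h0, hwlab] at h2
      have h3 := congrArg (fun t => labN b.val ^^^ t) h2
      simp only [Nat.xor_zero, ← Nat.xor_assoc, Nat.xor_self, Nat.zero_xor] at h3
      rw [← h3, Nat.xor_self]
    obtain ⟨p, hp, q, hq, hpq⟩ := (syl_elem (sM i b).isLt).2.2.2.2.2.2.2.2 hlab0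
    have hy : y = ⟨el128 ι w, el128_mem ι S hS w⟩ *
        (⟨el128 ι ⟨p, hp⟩, el128_mem ι S hS _⟩ ^ 2 * ⟨el128 ι ⟨q, hq⟩, el128_mem ι S hS _⟩ ^ 2) := by
      refine Subtype.ext ?_
      simp only [Subgroup.coe_mul, SubgroupClass.coe_pow, pow_two, el128_mul]
      rw [show sM (sM ⟨p, hp⟩ ⟨p, hp⟩) (sM ⟨q, hq⟩ ⟨q, hq⟩) = sM i b from Fin.ext hpq, ← el128_mul ι w,
        ← el128_mul ι i b, hi, mul_inv_cancel_left, hb]
    rw [hy]
    refine Subgroup.mul_mem_sup (Subgroup.subset_closure hwT) ?_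
    exact Subgroup.mul_mem _ (PGroup.pow_mem_frattini S.2 _) (PGroup.pow_mem_frattini S.2 _)
  refine le_antisymm hTS fun y hy => ?_
  have h1 : Subgroup.closure {z : ↥(S : Subgroup G) | (z : G) ∈ T} ≤ T.subgroupOf (S : Subgroup G) :=
    (Subgroup.closure_le _).2 fun z hz => hz
  exact h1 (htop.ge (Subgroup.mem_top (⟨y, hy⟩ : ↥(S : Subgroup G))))

end

end Cfsg.Agent.J3
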