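import Cfsg.Agent.Lib.J3.Simple
import Cfsg.Prelude.Def_Classical
import Cfsg.Prelude.Def_Sporadic

/-!
# The triple cover inside the unitary group
-/

set_option autoImplicit false

namespace Cfsg.Agent.J3

open Cfsg.Agent.G2Four (K4)

attribute [local irreducible] trN stN genN stGen nvN infoScal infoLead Cfsg.Agent.Presented.NTree.get

/-- Squaring on the field with four elements. -/
noncomputable def sqK : K4 →+ K4 where
  toFun x := x ^ 2
  map_zero' := by simp
  map_add' := by decide +kernel

/-- The conjugate transpose relation. -/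
def UnitaryMat (A : M9) : Prop := ∀ i j : Fin 9, ∑ k, A k i * A k j ^ 2 = if i = j then 1 else 0

theorem hermForm_of_unitary {A : M9} (hA : UnitaryMat A) (u v : Fin 9 → K4) :
    hermForm 9 K4 2 (A.mulVec u) (A.mulVec v) = hermForm 9 K4 2 u v := by
  have hs : ∀ k, (∑ j, A k j * v j) ^ 2 = ∑ j, A k j ^ 2 * v j ^ 2 := fun k => by
    rw [show (∑ j, A k j * v j) ^ 2 = sqK (∑ j, A k j * v j) from rfl, map_sum]
    exact Finset.sum_congr rfl fun j _ => mul_pow _ _ 2
  calc hermForm 9 K4 2 (A.mulVec u) (A.mulVec v)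
      = ∑ k, (∑ i, A k i * u i) * ∑ j, A k j ^ 2 * v j ^ 2 := by
        simp only [hermForm, Matrix.mulVec, dotProduct, hs]
    _ = ∑ i, ∑ j, (∑ k, A k i * A k j ^ 2) * (u i * v j ^ 2) := by
        simp only [Finset.sum_mul_sum]
        rw [Finset.sum_comm]
        refine Finset.sum_congr rfl fun i _ => ?_
        rw [Finset.sum_comm]
        refine Finset.sum_congr rfl fun j _ => ?_
        rw [Finset.sum_mul]
        exact Finset.sum_congr rfl fun k _ => by ring
    _ = hermForm 9 K4 2 u v := by
        simp only [hA _ _, ite_mul, one_mul, zero_mul, Finset.sum_ite_eq, Finset.mem_univ, if_true,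
          hermForm]

theorem unitary_genX : UnitaryMat (dec genX) := by unfold UnitaryMat; decide +kernel

theorem unitary_genY : UnitaryMat (dec genY) := by unfold UnitaryMat; decide +kernel

theorem det_eq_one (g : GL (Fin 9) K4) (hg : g ∈ G9) : Matrix.GeneralLinearGroup.det g = 1 := by
  have h3 : ∀ x : K4ˣ, x ^ 3 = 1 := fun x => Units.ext (by
    rw [Units.val_pow_eq_pow_val, Units.val_one]
    exact (show ∀ y : K4, y ≠ 0 → y ^ 3 = 1 by decide +kernel) _ x.ne_zero)
  have key : ∀ u : GL (Fin 9) K4, u ^ 19 = 1 → Matrix.GeneralLinearGroup.det u = 1 := fun u hu => by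
    have h := congrArg Matrix.GeneralLinearGroup.det hu
    rw [map_pow, map_one] at h
    calc Matrix.GeneralLinearGroup.det u
        = Matrix.GeneralLinearGroup.det u * (Matrix.GeneralLinearGroup.det u ^ 3) ^ 6 := by
          rw [h3, one_pow, mul_one]
      _ = 1 := by rw [← pow_mul, ← pow_succ', h]
  refine (Subgroup.closure_le (MonoidHom.ker (Matrix.GeneralLinearGroup.det (n := Fin 9) (R := K4)))).2
    ?_ hg
  rintro x (rfl | rfl)
  · exact key _ (congrArg Subtype.val gX_pow : uX ^ 19 = 1)
  · exact key _ (congrArg Subtype.val gY_pow : uY ^ 19 = 1)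

theorem unitary_G9 (g : GL (Fin 9) K4) (hg : g ∈ G9) (u v : Fin 9 → K4) :
    hermForm 9 K4 2 ((g : M9).mulVec u) ((g : M9).mulVec v) = hermForm 9 K4 2 u v := by
  revert u v
  refine Subgroup.closure_induction (p := fun (x : GL (Fin 9) K4) _ => ∀ u v,
    hermForm 9 K4 2 ((x : M9).mulVec u) ((x : M9).mulVec v) = hermForm 9 K4 2 u v) ?_ ?_ ?_ ?_ (show g ∈ Subgroup.closure {uX, uY} from hg)
  · rintro x (rfl | rfl) u v
    · rw [val_uX]; exact hermForm_of_unitary unitary_genX u v
    · rw [val_uY]; exact hermForm_of_unitary unitary_genY u v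
  · intro u v; simp
  · intro x y _ _ hx hy u v
    rw [Units.val_mul, ← Matrix.mulVec_mulVec, ← Matrix.mulVec_mulVec, hx, hy]
  · intro x _ hx u v
    rw [← hx, Matrix.mulVec_mulVec, Matrix.mulVec_mulVec, Units.mul_inv, Matrix.one_mulVec,
      Matrix.one_mulVec]

theorem det_mat (g : G9) : (mat g).det = 1 := by
  have h := congrArg Units.val (det_eq_one g.1 g.2)
  rw [Matrix.GeneralLinearGroup.val_det_apply, Units.val_one] at h
  exact h

/-- The embedding into the special linear group. -/
noncomputable def toSL : G9 →* Matrix.SpecialLinearGroup (Fin 9) K4 where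
  toFun g := ⟨mat g, det_mat g⟩
  map_one' := Subtype.ext (map_one mat)
  map_mul' g h := Subtype.ext (map_mul mat g h)

theorem toSL_mem (g : G9) : toSL g ∈ SU 9 K4 2 := fun u v => unitary_G9 g.1 g.2 u v

/-- The embedding into the unitary group. -/
noncomputable def toSU : G9 →* SU 9 K4 2 := toSL.codRestrict _ toSL_mem

theorem toSU_injective : Function.Injective toSU := fun g h e => mat_injective (by
  have e' := congrArg (fun x : SU 9 K4 2 => (x : Matrix.SpecialLinearGroup (Fin 9) K4).1) e
  exact e')

theorem exists_unitary_subgroup : ∃ H : Subgroup (SU 9 K4 2), Nat.card (Subgroup.center H) = 3 ∧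
    IsJ3 (H ⧸ Subgroup.center H) := by
  refine ⟨toSU.range, ?_⟩
  let e : G9 ≃* toSU.range := MonoidHom.ofInjective toSU_injective
  have hc : (Subgroup.center G9).map (e : G9 →* toSU.range) = Subgroup.center toSU.range := by
    ext x
    constructor
    · rintro ⟨z, hz, rfl⟩
      refine Subgroup.mem_center_iff.2 fun g => e.symm.injective ?_
      simpa using Subgroup.mem_center_iff.1 hz (e.symm g)
    · intro hx
      refine ⟨e.symm x, Subgroup.mem_center_iff.2 fun g => e.injective ?_, e.apply_symm_apply x⟩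
      simpa using Subgroup.mem_center_iff.1 hx (e g)
  have q : Q3 ≃* toSU.range ⧸ Subgroup.center toSU.range := QuotientGroup.congr _ _ e hc
  refine ⟨?_, ?_, ?_⟩
  · rw [← hc, ← Nat.card_congr
      ((Subgroup.center G9).equivMapOfInjective (e : G9 →* toSU.range) e.injective).toEquiv,
      card_center]
  · have := isSimple_Q3
    have := q.symm.toEquiv.nontrivial
    exact IsSimpleGroup.isSimpleGroup_of_surjective (G := Q3) q.toMonoidHom q.surjective
  · rw [← Nat.card_congr q.toEquiv, card_Q3]

end Cfsg.Agent.J3
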